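import Cfsg.Agent.S5644

/-!
An overgroup of an orthogonal group in six dimensions on contains a transvection with singular centre.

If `g` is no similarity, conjugate a Siegel transformation by `g` to get `Y`, of rank two, and take a
second Siegel transformation fixing the axis functionals of `Y` and one of its two centres but not the
other; their commutator is a transvection. A further Siegel transformation makes the centre singular.
-/

set_option autoImplicit false

namespace Cfsg.Agent.Lib.GeomSmall.QuadSix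

open Matrix Cfsg.Agent.Lib.Subspaces.Transvection Cfsg.Agent.Lib.Subspaces.FormVec
  Cfsg.Agent.Lib.Subspaces.OrthForm

variable {ι : Type} [Fintype ι] [DecidableEq ι] {F : Type*} [Field F] [Finite F]
  {Q : (ι → F) → F}

local notation "B" => QuadraticMap.polar Q

/-- A singular vector with a companion witnessing that `g` is no similarity. -/
theorem exists_pair (hQ : Cfsg.Geo.IsNondegenerateQuadraticForm Q) (h2 : (2 : F) ≠ 0)
    (hn : 6 ≤ Fintype.card ι) {g : GL ι F} (hg : g ∉ Cfsg.Geo.quadSimilarityGroup Q)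
    {h : (ι → F) →ₗ[F] (ι → F)} (hh : ∀ x u, B x u = B (g.1 *ᵥ x) (g.1 *ᵥ h u)) :
    ∃ u w : ι → F, u ≠ 0 ∧ Q u = 0 ∧ B w u = 0 ∧
      w ∉ Submodule.span F (Set.range ![u, h u, h w]) := by
  have : Nonempty ι := Fintype.card_pos_iff.mp (by omega)
  by_contra hc
  push Not at hc
  have hb := hQ.polar_bilinear
  let S : (ι → F) → Submodule F (ι → F) := fun u => Submodule.span F (Set.range ![u, h u])
  have huS : ∀ u, u ∈ S u := fun u => Submodule.subset_span ⟨0, rfl⟩
  have hhuS : ∀ u, h u ∈ S u := fun u => Submodule.subset_span ⟨1, rfl⟩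
  have hμ : ∀ u, u ≠ 0 → Q u = 0 → ∃ μ : F, ∀ w, B w u = 0 → h w - μ • w ∈ S u := by
    intro u hu0 hu
    have hpt : ∀ w, B w u = 0 → w ∉ S u → ∃ c : F, h w - c • w ∈ S u := by
      intro w hwu hwS
      obtain ⟨c, hc'⟩ := (Submodule.mem_span_range_iff_exists_fun F).mp (hc u w hu0 hu hwu)
      simp only [Fin.sum_univ_three, Matrix.cons_val_zero, Matrix.cons_val_one,
        Matrix.cons_val_two, Matrix.tail_cons, Matrix.head_cons] at hc'
      have hc2 : c 2 ≠ 0 := fun e => hwS (by
        rw [← hc', e, zero_smul, add_zero]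
        exact (S u).add_mem ((S u).smul_mem _ (huS u)) ((S u).smul_mem _ (hhuS u)))
      refine ⟨(c 2)⁻¹, ?_⟩
      have h1 : h w - (c 2)⁻¹ • w = -((c 2)⁻¹ * c 0) • u + -((c 2)⁻¹ * c 1) • h u := by
        conv_lhs => arg 2; rw [← hc']
        match_scalars <;> field_simp <;> ring
      rw [h1]
      exact (S u).add_mem ((S u).smul_mem _ (huS u)) ((S u).smul_mem _ (hhuS u))
    choose! c hc' using hpt
    have hind : ∀ a z, B a u = 0 → a ∉ S u → B z u = 0 →
        z ∉ Submodule.span F (Set.range ![u, h u, a]) → c a = c z := by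
      intro a z hau haS hzu hzT
      have hle : S u ≤ Submodule.span F (Set.range ![u, h u, a]) :=
        Submodule.span_mono (by rintro _ ⟨i, rfl⟩; fin_cases i <;> simp)
      have hne : ∀ t : F, t ≠ 0 → ∀ s : F, t • z + s • a ∉ S u := by
        intro t ht s hm
        apply hzT
        have h1 := Submodule.smul_mem _ t⁻¹ (Submodule.sub_mem _ (hle hm)
          (Submodule.smul_mem _ s (Submodule.subset_span (R := F) (show a ∈ Set.range ![u, h u, a] from ⟨2, rfl⟩))))
        rwa [add_sub_cancel_right, smul_smul, inv_mul_cancel₀ ht, one_smul] at h1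
      have hz : z ∉ S u := fun hm => hzT (hle hm)
      have hazS : a + z ∉ S u := fun hm => hne 1 one_ne_zero 1 (by rwa [one_smul, one_smul, add_comm])
      have h1 := (S u).sub_mem ((S u).sub_mem (hc' _ (by rw [hb.add_left, hau, hzu, add_zero]) hazS)
        (hc' _ hau haS)) (hc' _ hzu hz)
      rw [map_add, show h a + h z - c (a + z) • (a + z) - (h a - c a • a) - (h z - c z • z) =
        (c z - c (a + z)) • z + (c a - c (a + z)) • a by module] at h1
      by_cases hz0 : c z - c (a + z) = 0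
      · rw [hz0, zero_smul, zero_add] at h1
        by_cases ha0 : c a - c (a + z) = 0
        · linear_combination ha0 - hz0
        · refine absurd ?_ haS
          simpa [smul_smul, ha0] using (S u).smul_mem (c a - c (a + z))⁻¹ h1
      · exact absurd h1 (hne _ hz0 _)
    have hconst : ∀ a b, B a u = 0 → a ∉ S u → B b u = 0 → b ∉ S u → c a = c b := by
      intro a b hau haS hbu hbS
      obtain ⟨z, hzT, hz⟩ := exists_common_zero_not_mem
        (Submodule.span F (Set.range ![u, h u, a, b])) ![formVec B u]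
        (by have := finrank_span_range_le ![u, h u, a, b]; omega)
      have hzu : B z u = 0 := by rw [← formVec_dot (bil hQ)]; exact hz 0
      rw [hind a z hau haS hzu fun hm => hzT
          (Submodule.span_mono (by rintro _ ⟨i, rfl⟩; fin_cases i <;> simp) hm),
        hind b z hbu hbS hzu fun hm => hzT
          (Submodule.span_mono (by rintro _ ⟨i, rfl⟩; fin_cases i <;> simp) hm)]
    obtain ⟨w0, hw0S, hw0⟩ := exists_common_zero_not_mem (S u) ![formVec B u]
      (by have : Module.finrank F (S u) ≤ 2 := finrank_span_range_le _; omega)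
    have hw0u : B w0 u = 0 := by rw [← formVec_dot (bil hQ)]; exact hw0 0
    refine ⟨c w0, fun w hwu => ?_⟩
    by_cases hwS : w ∈ S u
    · have hs : w + w0 ∉ S u := fun hm => hw0S (by simpa using (S u).sub_mem hm hwS)
      have hsu : B (w + w0) u = 0 := by rw [hb.add_left, hwu, hw0u, add_zero]
      have h1 := (S u).sub_mem (hc' _ hsu hs) (hc' _ hw0u hw0S)
      rw [hconst _ _ hsu hs hw0u hw0S, map_add,
        show h w + h w0 - c w0 • (w + w0) - (h w0 - c w0 • w0) = h w - c w0 • w by module] at h1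
      exact h1
    · rw [hconst _ _ hw0u hw0S hwu hwS]; exact hc' w hwu hwS
  obtain ⟨z0, hz0⟩ := exists_ne (0 : ι → F)
  obtain ⟨u0, hu0, -, hu0z⟩ := exists_singular hQ h2 (![] : Fin 0 → ι → F) (z := z0)
    (by simpa using hz0) (by omega)
  have hu00 : u0 ≠ 0 := fun e => one_ne_zero (by rw [← hu0z, e, form_zero_left (bil hQ)])
  obtain ⟨lam, hlam⟩ := hμ u0 hu00 hu0
  let D : (ι → F) →ₗ[F] (ι → F) := h - lam • LinearMap.id
  have hD : ∀ x, D x = h x - lam • x := fun x => rfl
  have hDsym : ∀ x y, B (D x) y = B x (D y) := fun x y => by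
    rw [hD, hD, form_sub_left (bil hQ), sub_right hQ, hb.smul_left, hb.smul_right,
      Cfsg.Agent.S5644.adjoint_symm hQ hh]
  have hDne : ∃ y, D y ≠ 0 := by
    by_contra hz
    push Not at hz
    exact hg (Cfsg.Agent.S5644.sim_of_adjoint_scalar hQ h2 hh fun x => sub_eq_zero.mp (hz x))
  set K := LinearMap.ker D
  set I := LinearMap.range D
  have hK3 : Fintype.card ι ≤ Module.finrank F K + 3 := by
    have hIle : I ≤ Submodule.span F (Set.range ![u0, h u0, D z0]) := by
      rintro _ ⟨x, rfl⟩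
      have h1 : D (x - B x u0 • z0) ∈ S u0 := hlam _ (by
        rw [form_sub_left (bil hQ), hb.smul_left, B_comm z0, hu0z]; ring)
      rw [show D x = D (x - B x u0 • z0) + B x u0 • D z0 by rw [map_sub, map_smul]; abel]
      exact Submodule.add_mem _ (Submodule.span_mono (by rintro _ ⟨i, rfl⟩; fin_cases i <;> simp) h1)
        (Submodule.smul_mem _ _ (Submodule.subset_span ⟨2, rfl⟩))
    have h1 := LinearMap.finrank_range_add_finrank_ker D
    rw [Module.finrank_fintype_fun_eq_card] at h1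
    have h3 : Module.finrank F I ≤ 3 := (Submodule.finrank_mono hIle).trans (finrank_span_range_le _)
    have h4 : Module.finrank F I + Module.finrank F K = Fintype.card ι := h1
    omega
  -- every singular vector has the eigenvalue `lam`
  have hall : ∀ u, u ≠ 0 → Q u = 0 → ∀ w, B w u = 0 → D w ∈ S u := by
    intro u hu0 hu
    obtain ⟨μ, hμu⟩ := hμ u hu0 hu
    by_cases hml : μ = lam
    · intro w hw; rw [hD, ← hml]; exact hμu w hw
    exfalso
    let L : K →ₗ[F] F :=
      { toFun := fun x => B (x : ι → F) u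
        map_add' := fun x y => hb.add_left _ _ _
        map_smul' := fun t x => hb.smul_left _ _ _ }
    let W := (LinearMap.ker L).map K.subtype
    have hW2 : 2 ≤ Module.finrank F W := by
      have h1 := LinearMap.finrank_range_add_finrank_ker L
      have h4 : Module.finrank F (LinearMap.range L) ≤ 1 :=
        (Submodule.finrank_le _).trans (Module.finrank_self F).le
      have h5 : Module.finrank F W = Module.finrank F (LinearMap.ker L) :=
        (Submodule.equivMapOfInjective K.subtype K.injective_subtype _).finrank_eq.symm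
      omega
    have hWS : W ≤ S u := by
      rintro _ ⟨k, hk, rfl⟩
      have hk1 : D (k : ι → F) = 0 := k.2
      rw [hD, sub_eq_zero] at hk1
      have h1 := hμu (k : ι → F) hk
      rw [hk1, ← sub_smul] at h1
      simpa [smul_smul, sub_ne_zero.mpr (Ne.symm hml)] using (S u).smul_mem (lam - μ)⁻¹ h1
    by_cases huK : u ∈ K
    · have h1 : h u = lam • u := sub_eq_zero.mp (LinearMap.mem_ker.mp huK)
      have hle : W ≤ Submodule.span F {u} := hWS.trans (Submodule.span_le.mpr (by
        rintro _ ⟨i, rfl⟩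
        fin_cases i
        · exact Submodule.mem_span_singleton_self u
        · simpa [h1] using Submodule.smul_mem _ lam (Submodule.mem_span_singleton_self u)))
      have h6 := Submodule.finrank_mono hle
      rw [finrank_span_singleton hu0] at h6
      omega
    · have heq : W = S u := Submodule.eq_of_le_of_finrank_le hWS ((finrank_span_range_le _).trans hW2)
      obtain ⟨k, -, hk⟩ := heq ▸ huS u
      exact huK (hk ▸ k.2)
  -- no singular vector of the kernel lies outside the image
  have hB : ∀ b, Q b = 0 → D b = 0 → b ∈ I := by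
    intro b hb' hDb
    by_contra hbI
    have hb0 : b ≠ 0 := fun e => hbI (e ▸ I.zero_mem)
    have hhb : h b = lam • b := sub_eq_zero.mp (by rw [← hD]; exact hDb)
    have hperp : ∀ w, B w b = 0 → D w = 0 := by
      intro w hw
      obtain ⟨t, ht⟩ := (Submodule.mem_span_range_iff_exists_fun F).mp (hall b hb0 hb' w hw)
      simp only [Fin.sum_univ_two, Matrix.cons_val_zero, Matrix.cons_val_one, hhb, smul_smul,
        ← add_smul] at ht
      rcases eq_or_ne (t 0 + t 1 * lam) 0 with e | e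
      · rw [← ht, e, zero_smul]
      · refine absurd ⟨(t 0 + t 1 * lam)⁻¹ • w, ?_⟩ hbI
        rw [map_smul, ← ht, smul_smul, inv_mul_cancel₀ e, one_smul]
    obtain ⟨z, -, hzb⟩ := dual hQ (S := ⊥) (z := b) (by simpa using hb0)
    have hDx : ∀ x, D x = B x b • D z := fun x => by
      have h1 := hperp (x - B x b • z) (by rw [form_sub_left (bil hQ), hb.smul_left, hzb]; ring)
      rwa [map_sub, map_smul, sub_eq_zero] at h1
    obtain ⟨y, hy⟩ := hDne
    refine hy ?_
    have hz' : D z = B (D z) z • b := by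
      by_contra hne
      obtain ⟨⟨x, hx⟩, -⟩ := hQ.nondegenerate _ (sub_ne_zero.mpr hne)
      apply hx
      rw [sub_right hQ, hb.smul_right, ← hDsym, hDx x, hb.smul_left]
      ring
    rcases eq_or_ne (B (D z) z) 0 with e | e
    · rw [hDx, hz', e, zero_smul, smul_zero]
    · refine absurd ⟨(B (D z) z)⁻¹ • z, ?_⟩ hbI
      rw [map_smul]
      conv_lhs => arg 2; rw [hz']
      rw [smul_smul, inv_mul_cancel₀ e, one_smul]
  -- a singular vector outside kernel and image
  have hperpI : ∀ t, (∀ y ∈ I, B t y = 0) → D t = 0 := fun t ht => by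
    by_contra hne
    obtain ⟨⟨x, hx⟩, -⟩ := hQ.nondegenerate _ hne
    exact hx (by rw [← hDsym, B_comm]; exact ht _ ⟨x, rfl⟩)
  obtain ⟨u, hu0, hu, huK, huI⟩ : ∃ u, u ≠ 0 ∧ Q u = 0 ∧ D u ≠ 0 ∧ u ∉ I := by
    have hsp := span_singular hQ h2 (by omega)
    obtain ⟨a, ha, haK⟩ : ∃ a, Q a = 0 ∧ D a ≠ 0 := by
      by_contra hno
      push Not at hno
      obtain ⟨y, hy⟩ := hDne
      have hle : Submodule.span F {v : ι → F | Q v = 0} ≤ K := Submodule.span_le.mpr fun v hv => hno v hv
      rw [hsp] at hle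
      exact hy (hle (Submodule.mem_top (x := y)))
    obtain ⟨b, hb', hbI⟩ : ∃ b, Q b = 0 ∧ b ∉ I := by
      by_contra hno
      push Not at hno
      have hle : Submodule.span F {v : ι → F | Q v = 0} ≤ I := Submodule.span_le.mpr fun v hv => hno v hv
      rw [hsp] at hle
      have h1 := Submodule.finrank_mono hle
      rw [finrank_top, Module.finrank_fintype_fun_eq_card] at h1
      have h3 := LinearMap.finrank_range_add_finrank_ker D
      rw [Module.finrank_fintype_fun_eq_card] at h3
      have h4 : Module.finrank F I + Module.finrank F K = Fintype.card ι := h3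
      omega
    by_cases haI : a ∈ I
    · refine ⟨b, fun e => hbI (e ▸ I.zero_mem), hb', fun e => hbI (hB b hb' e), hbI⟩
    · exact ⟨a, fun e => haK (by rw [e, map_zero]), ha, haK, haI⟩
  obtain ⟨k, hk, hku⟩ := dual hQ huI
  have hDk : D k = 0 := hperpI k hk
  have hline : ∀ x, ∃ t : F, D x = t • D u := by
    intro x
    have h1 : D (x - B x u • k) ∈ S u := hall u hu0 hu _ (by
      rw [form_sub_left (bil hQ), hb.smul_left, hku]; ring)
    rw [map_sub, map_smul, hDk, smul_zero, sub_zero] at h1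
    obtain ⟨t, ht⟩ := (Submodule.mem_span_range_iff_exists_fun F).mp h1
    simp only [Fin.sum_univ_two, Matrix.cons_val_zero, Matrix.cons_val_one] at ht
    have h3 : D x = (t 0 + t 1 * lam) • u + t 1 • D u := by
      conv_lhs => rw [← ht]
      rw [hD u]; module
    refine ⟨t 1, ?_⟩
    rcases eq_or_ne (t 0 + t 1 * lam) 0 with e | e
    · rw [h3, e, zero_smul, zero_add]
    · refine absurd ⟨(t 0 + t 1 * lam)⁻¹ • (x - t 1 • u), ?_⟩ huI
      rw [map_smul, map_sub, map_smul, h3, add_sub_cancel_right, smul_smul, inv_mul_cancel₀ e, one_smul]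
  set d := D u
  obtain ⟨z, hzd, hz⟩ := exists_common_zero_not_mem (Submodule.span F {d}) ![formVec B d]
    (by rw [finrank_span_singleton huK]; omega)
  obtain ⟨u2, hu2, hu2s, hu2z⟩ := exists_singular hQ h2 ![d] (z := z)
    (by rwa [Matrix.range_cons, Matrix.range_empty, Set.union_empty]) (by omega)
  have hu2d : B u2 d = 0 := hu2s 0
  have hDu2 : D u2 = 0 := by
    by_contra hne
    obtain ⟨⟨x, hx⟩, -⟩ := hQ.nondegenerate _ hne
    obtain ⟨t, ht⟩ := hline x
    exact hx (by rw [← hDsym, ht, hb.smul_left, B_comm, hu2d, mul_zero])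
  obtain ⟨x, hx⟩ := hB u2 hu2 hDu2
  obtain ⟨t, ht⟩ := hline x
  have hzd' : B z d = 0 := by rw [← formVec_dot (bil hQ)]; exact hz 0
  rw [← hx, ht, hb.smul_left, B_comm, hzd', mul_zero] at hu2z
  exact zero_ne_one hu2z

/-- A transvection with singular centre in the overgroup. -/
theorem exists_tv (hQ : Cfsg.Geo.IsNondegenerateQuadraticForm Q) (h2 : (2 : F) ≠ 0)
    (hn : 6 ≤ Fintype.card ι) {M : Subgroup (GL ι F)}
    (hS : ∀ u w : ι → F, Q u = 0 → B w u = 0 → sieg Q u w ∈ M)
    {g : GL ι F} (hgM : g ∈ M) (hg : g ∉ Cfsg.Geo.quadSimilarityGroup Q) :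
    ∃ w y : ι → F, Q w = 0 ∧ w ≠ 0 ∧ y ≠ 0 ∧ B w y = 0 ∧ formVec B y ∈ axes M w := by
  have hb := hQ.polar_bilinear
  obtain ⟨h, hh⟩ := Cfsg.Agent.S5644.exists_adjoint hQ g
  obtain ⟨u', w', hu'ne, hu', hwu', hind⟩ := exists_pair hQ h2 hn hg hh
  set a0 := g.1 *ᵥ u' with ha0
  set b0 := g.1 *ᵥ w' with hb0
  set y := g.1 *ᵥ h u' with hy
  set y' := g.1 *ᵥ h w' with hy'
  have hbS : b0 ∉ Submodule.span F (Set.range ![a0, y, y']) := by
    intro hm
    obtain ⟨c, hc⟩ := (Submodule.mem_span_range_iff_exists_fun F).mp hm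
    simp only [Fin.sum_univ_three, Matrix.cons_val_zero, Matrix.cons_val_one, Matrix.cons_val_two,
      Matrix.tail_cons, Matrix.head_cons, ha0, hb0, hy, hy', ← mulVec_smul, ← mulVec_add] at hc
    refine hind ((Submodule.mem_span_range_iff_exists_fun F).mpr ⟨![c 0, c 1, c 2], ?_⟩)
    simpa [Fin.sum_univ_three, add_assoc] using gl_mulVec_injective g hc
  have hy0 : y ≠ 0 := fun e => by
    have h0 : h u' = 0 := gl_mulVec_injective g (by
      show g.1 *ᵥ h u' = g.1 *ᵥ 0
      rw [mulVec_zero, ← hy, e])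
    obtain ⟨⟨x, hx⟩, -⟩ := hQ.nondegenerate u' hu'ne
    exact hx (by rw [hh x u', h0, mulVec_zero, zero_right hQ])
  have hay : B a0 y = 0 := by rw [ha0, hy, ← hh, B_self hQ, hu', mul_zero]
  have hby : B b0 y = 0 := by rw [hb0, hy, ← hh, hwu']
  -- a Siegel transformation fixing `a0`, `y`, `y'` and moving `b0`
  obtain ⟨u, w, hu, hwu, hua, huy, huy', hwa, hwy, hwy', hc0⟩ : ∃ u w : ι → F, Q u = 0 ∧ B w u = 0 ∧
      B u a0 = 0 ∧ B u y = 0 ∧ B u y' = 0 ∧ B w a0 = 0 ∧ B w y = 0 ∧ B w y' = 0 ∧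
      B b0 u • w + (-B b0 w - Q w * B b0 u) • u ≠ 0 := by
    have hI : ∀ u, u ≠ 0 → Q u = 0 → (∀ i, B u (![a0, y, y'] i) = 0) → B b0 u ≠ 0 →
        ∃ u w : ι → F, Q u = 0 ∧ B w u = 0 ∧ B u a0 = 0 ∧ B u y = 0 ∧ B u y' = 0 ∧ B w a0 = 0 ∧
          B w y = 0 ∧ B w y' = 0 ∧ B b0 u • w + (-B b0 w - Q w * B b0 u) • u ≠ 0 := by
      intro u hu0 hu hus hbu
      obtain ⟨w, hwS, hws⟩ := exists_common_zero_not_mem (Submodule.span F {u})
        (fun i => formVec B (![a0, y, y', u] i)) (by rw [finrank_span_singleton hu0]; omega)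
      have hwB : ∀ i, B w (![a0, y, y', u] i) = 0 := fun i => by
        rw [← formVec_dot (bil hQ)]; exact hws i
      refine ⟨u, w, hu, hwB 3, hus 0, hus 1, hus 2, hwB 0, hwB 1, hwB 2, fun e => hwS ?_⟩
      refine Submodule.mem_span_singleton.mpr ⟨(B b0 u)⁻¹ * (B b0 w + Q w * B b0 u), ?_⟩
      have e1 : B b0 u • w = (B b0 w + Q w * B b0 u) • u := by linear_combination (norm := module) e
      rw [← smul_smul, ← e1, smul_smul, inv_mul_cancel₀ hbu, one_smul]
    obtain ⟨u1, hu10, hu1, hu1s⟩ := exists_singular_mem hQ h2 ![a0, y, y'] (by omega)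
    by_cases hb1 : B b0 u1 = 0
    swap
    · exact hI u1 hu10 hu1 hu1s hb1
    by_cases hu1S : u1 ∈ Submodule.span F (Set.range ![a0, y, y'])
    · obtain ⟨w, hw, hwb⟩ := dual hQ hbS
      refine ⟨u1, w, hu1, hw u1 hu1S, hu1s 0, hu1s 1, hu1s 2, hw _ (Submodule.subset_span ⟨0, rfl⟩),
        hw _ (Submodule.subset_span ⟨1, rfl⟩), hw _ (Submodule.subset_span ⟨2, rfl⟩), fun e => ?_⟩
      rw [hb1, zero_smul, zero_add, mul_zero, sub_zero, B_comm, hwb, smul_eq_zero] at e
      exact e.elim (neg_ne_zero.mpr one_ne_zero) hu10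
    obtain ⟨t, ht, htb⟩ := dual hQ hbS
    obtain ⟨t2, ht2, ht2u⟩ := dual hQ hu1S
    obtain ⟨t', ht', ht'b, ht'u⟩ : ∃ t', (∀ i, B t' (![a0, y, y'] i) = 0) ∧ B t' b0 ≠ 0 ∧ B t' u1 ≠ 0 := by
      have hts : ∀ s : F, ∀ i, B (t + s • t2) (![a0, y, y'] i) = 0 := fun s i => by
        rw [hb.add_left, hb.smul_left, ht _ (Submodule.subset_span ⟨i, rfl⟩),
          ht2 _ (Submodule.subset_span ⟨i, rfl⟩), mul_zero, add_zero]
      by_cases htu : B t u1 = 0
      · by_cases hs : (1 : F) + B t2 b0 = 0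
        · refine ⟨_, hts (-1), ?_, ?_⟩
          · rw [hb.add_left, hb.smul_left, htb]
            exact fun e => h2 (by linear_combination e + hs)
          · rw [hb.add_left, hb.smul_left, htu, ht2u]; simp
        · refine ⟨_, hts 1, ?_, ?_⟩
          · rw [hb.add_left, hb.smul_left, htb, one_mul]; exact hs
          · rw [hb.add_left, hb.smul_left, htu, ht2u]; simp
      · exact ⟨t, fun i => ht _ (Submodule.subset_span ⟨i, rfl⟩), by rw [htb]; exact one_ne_zero, htu⟩
    have hbu : B b0 (t' + (-(Q t') / B t' u1) • u1) ≠ 0 := by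
      rw [hb.add_right, hb.smul_right, hb1, mul_zero, add_zero, B_comm]; exact ht'b
    refine hI _ (fun e => hbu (by rw [e, zero_right hQ])) ?_ (fun i => ?_) hbu
    · rw [Q_add_smul hQ, hu1, mul_zero, add_zero, div_mul_cancel₀ _ ht'u, add_neg_cancel]
    · rw [hb.add_left, hb.smul_left, ht', hu1s, mul_zero, add_zero]
  set c := B b0 u • w + (-B b0 w - Q w * B b0 u) • u with hc
  have hcy : B c y = 0 := by rw [hc, hb.add_left, hb.smul_left, hb.smul_left, hwy, huy]; ring
  have hcax : formVec B y ∈ axes M c := by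
    refine ⟨by rw [formVec_dot (bil hQ), hcy], fun a => ?_⟩
    have hu'a : Q (a • u') = 0 := by rw [hQ.smul, hu', mul_zero]
    have hwu'a : B w' (a • u') = 0 := by rw [hb.smul_right, hwu', mul_zero]
    have hYv : ∀ x, ((g * sieg Q (a • u') w' * g⁻¹ : GL ι F) : Matrix ι ι F) *ᵥ x =
        x + (a * B x y) • b0 + (-B x y' - Q w' * (a * B x y)) • (a • a0) := by
      intro x
      have key : ∀ v, B ((g⁻¹ : GL ι F).1 *ᵥ x) v = B x (g.1 *ᵥ h v) := fun v => by
        rw [hh _ v, gl_mulVec_inv]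
      rw [gl_mul_mulVec, gl_mul_mulVec, sieg_mulVec hQ hu'a hwu'a, mulVec_add, mulVec_add,
        mulVec_smul, mulVec_smul, mulVec_smul, gl_mulVec_inv, hb.smul_right, key, key]
    have hXv : ∀ x, (sieg Q u w : Matrix ι ι F) *ᵥ x =
        x + B x u • w + (-B x w - Q w * B x u) • u := sieg_mulVec hQ hu hwu
    have hXm := hS u w hu hwu
    generalize sieg Q u w = X at hXm hXv
    have hYm : g * sieg Q (a • u') w' * g⁻¹ ∈ M :=
      M.mul_mem (M.mul_mem hgM (hS _ _ hu'a hwu'a)) (M.inv_mem hgM)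
    generalize g * sieg Q (a • u') w' * g⁻¹ = Y at hYv hYm
    have hd : (a • formVec B y) ⬝ᵥ c = 0 := by
      rw [smul_dotProduct, formVec_dot (bil hQ), hcy, smul_zero]
    have heq : X * Y = tv c (a • formVec B y) * (Y * X) := by
      refine gl_ext fun x => ?_
      rw [gl_mul_mulVec, gl_mul_mulVec, gl_mul_mulVec, tv_mulVec hd, hXv, hYv, hYv, hXv,
        smul_dotProduct, formVec_dot (bil hQ)]
      simp only [hb.add_left, hb.smul_left, hc, B_comm a0 u, hua, B_comm a0 w, hwa, hwy, hwy', huy, huy',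
        hay, hby, smul_eq_mul]
      module
    rw [show tv c (a • formVec B y) = X * Y * (Y * X)⁻¹ by rw [heq, mul_inv_cancel_right]]
    exact M.mul_mem (M.mul_mem hXm hYm) (M.inv_mem (M.mul_mem hYm hXm))
  -- make the centre singular
  by_cases hcQ : Q c = 0
  · exact ⟨c, y, hcQ, hc0, hy0, hcy, hcax⟩
  have hcc : B c c ≠ 0 := by rw [B_self hQ]; exact mul_ne_zero h2 hcQ
  have hyc : y ∉ Submodule.span F {c} := fun hm => by
    obtain ⟨t, ht⟩ := Submodule.mem_span_singleton.mp hm
    have h1 := hcy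
    rw [← ht, hb.smul_right] at h1
    rcases mul_eq_zero.mp h1 with e | e
    · exact hy0 (by rw [← ht, e, zero_smul])
    · exact hcc e
  obtain ⟨t, htc, hty⟩ := dual hQ hyc
  have htc' : B t c = 0 := htc c (Submodule.mem_span_singleton_self c)
  obtain ⟨v, hv0, hv, hvs⟩ := exists_singular_mem hQ h2 ![c, y, t] (by omega)
  have hvc : B v c = 0 := hvs 0
  have hvy : B v y = 0 := hvs 1
  have hvt : B v t = 0 := hvs 2
  have hcS : c ∉ Submodule.span F (Set.range ![v, y]) := by
    intro hm
    obtain ⟨s, hs⟩ := (Submodule.mem_span_range_iff_exists_fun F).mp hm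
    simp only [Fin.sum_univ_two, Matrix.cons_val_zero, Matrix.cons_val_one] at hs
    refine hcc ?_
    rw [show B c c = B (s 0 • v + s 1 • y) c by rw [hs]]
    rw [hb.add_left, hb.smul_left, hb.smul_left, hvc, B_comm y, hcy]; ring
  obtain ⟨p, hp, hpc⟩ := dual hQ hcS
  have hpv : B p v = 0 := hp _ (Submodule.subset_span ⟨0, rfl⟩)
  have hpy : B p y = 0 := hp _ (Submodule.subset_span ⟨1, rfl⟩)
  refine ⟨v, y, hv, hv0, hy0, hvy, by rw [formVec_dot (bil hQ), hvy], fun a => ?_⟩
  have hTm := hcax.2 (-a)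
  have hXm := hS v p hv hpv
  have hXv : ∀ x, (sieg Q v p : Matrix ι ι F) *ᵥ x =
      x + B x v • p + (-B x p - Q p * B x v) • v := sieg_mulVec hQ hv hpv
  generalize sieg Q v p = X at hXm hXv
  have hd : (-a • formVec B y) ⬝ᵥ c = 0 := by rw [smul_dotProduct, formVec_dot (bil hQ), hcy, smul_zero]
  have hd' : (a • formVec B y) ⬝ᵥ v = 0 := by rw [smul_dotProduct, formVec_dot (bil hQ), hvy, smul_zero]
  have heq : X * tv c (-a • formVec B y) = tv v (a • formVec B y) * (tv c (-a • formVec B y) * X) := by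
    refine gl_ext fun x => ?_
    rw [gl_mul_mulVec, gl_mul_mulVec, gl_mul_mulVec, tv_mulVec hd', tv_mulVec hd, tv_mulVec hd, hXv, hXv,
      smul_dotProduct, smul_dotProduct, smul_dotProduct, formVec_dot (bil hQ), formVec_dot (bil hQ),
      formVec_dot (bil hQ)]
    simp only [hb.add_left, hb.smul_left, B_comm c v, hvc, B_comm c p, hpc, hpy, hvy, hcy, smul_eq_mul]
    module
  rw [show tv v (a • formVec B y) = X * tv c (-a • formVec B y) * (tv c (-a • formVec B y) * X)⁻¹ by
    rw [heq, mul_inv_cancel_right]]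
  exact M.mul_mem (M.mul_mem hXm hTm) (M.inv_mem (M.mul_mem hTm hXm))

theorem le_of_not_sim (hQ : Cfsg.Geo.IsNondegenerateQuadraticForm Q) (h2 : (2 : F) ≠ 0)
    (hn : 6 ≤ Fintype.card ι) {M : Subgroup (GL ι F)}
    (hS : ∀ u w : ι → F, Q u = 0 → B w u = 0 → sieg Q u w ∈ M)
    {g : GL ι F} (hgM : g ∈ M) (hg : g ∉ Cfsg.Geo.quadSimilarityGroup Q) :
    Cfsg.Geo.specialLinear ι F ≤ M := by
  obtain ⟨w0, y0, hw0, hw00, hy0, hwy0, hy0M⟩ := exists_tv hQ h2 hn hS hgM hg
  exact Cfsg.Agent.S5644.le_of_tv hQ h2 hn hS hw0 hw00 hy0 hwy0 hy0M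

end Cfsg.Agent.Lib.GeomSmall.QuadSix
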