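import Cfsg.Agent.S5631
import Cfsg.Agent.S5639
import Cfsg.Agent.S5642
import Cfsg.Agent.S5643
import Cfsg.Agent.Lib.GeomSmall.QuadSix
import Cfsg.Agent.S5886
import Cfsg.Agent.Lib.DecompMax.Main
import Cfsg.Agent.Lib.TensorMax.Main

/-!
Maximality of geometric subgroups of the special linear group without the dimension bound.
-/

set_option autoImplicit false

namespace Cfsg.Agent.Lib.GeomSmall

open Matrix Cfsg.Agent.Lib.Subspaces.Transvection

theorem subspace_maximal {F : Type*} [Field F] [Fintype F] {n : ℕ} (W : Submodule F (Fin n → F))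
    (hW0 : W ≠ ⊥) (hW1 : W ≠ ⊤) : Cfsg.Geo.IsMaximalIn (Cfsg.Geo.specialLinear (Fin n) F)
      (Cfsg.Geo.subspaceStabilizer W ⊓ Cfsg.Geo.specialLinear (Fin n) F) := by
  classical
  refine isMaximalIn_of inf_le_right ?_ ?_
  · obtain ⟨v, φ, -, h⟩ := exists_tv_not_mem_stabilizer hW0 hW1
    exact ⟨tv v φ, tv_mem_specialLinear v φ, fun h' => h h'.1⟩
  intro M hHM hMK g hgM hgH
  have hgW : g ∉ Geo.subspaceStabilizer W := fun h => hgH ⟨h, hMK hgM⟩
  rw [mem_subspaceStabilizer_iff] at hgW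
  push Not at hgW
  obtain ⟨w, hw, hx⟩ := hgW
  have hC : ∀ u ∈ W, u ∈ fullCenters M := fun u hu φ _ =>
    hHM ⟨tv_mem_stabilizer_of_center hu, tv_mem_specialLinear u φ⟩
  set x := (g : Matrix (Fin n) (Fin n) F).mulVec w with hxdef
  have hxC : x ∈ fullCenters M := fullCenter_conj (hC w hw) hgM
  refine specialLinear_le_of_fullCenter fun y => ?_
  by_cases hy : y ∈ W ⊔ Submodule.span F {x}
  · exact (sup_le (fun u hu => hC u hu) ((Submodule.span_singleton_le_iff_mem _ _).mpr hxC) :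
      W ⊔ Submodule.span F {x} ≤ fullCenters M) hy
  have hxs : x ∉ W ⊔ Submodule.span F {y - x} := by
    intro hmem
    obtain ⟨u, hu, z, hz, hsum⟩ := Submodule.mem_sup.mp hmem
    obtain ⟨a, rfl⟩ := Submodule.mem_span_singleton.mp hz
    rcases eq_or_ne a 0 with rfl | ha
    · rw [zero_smul, add_zero] at hsum
      exact hx (hsum ▸ hu)
    · apply hy
      have hya : y = -a⁻¹ • u + ((1 + a) * a⁻¹) • x := by
        have h2 : a • y = -u + (1 + a) • x := by
          rw [add_smul, one_smul]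
          nth_rw 1 [← hsum]
          rw [smul_sub]; abel
        calc y = a⁻¹ • (a • y) := by rw [smul_smul, inv_mul_cancel₀ ha, one_smul]
          _ = _ := by rw [h2, smul_add, smul_neg, neg_smul, smul_smul, mul_comm]
      rw [hya]
      exact Submodule.add_mem_sup (W.smul_mem _ hu)
        (Submodule.smul_mem _ _ (Submodule.mem_span_singleton_self x))
  obtain ⟨φ, hφ, hφx⟩ := exists_functional hxs
  have h0 : φ ⬝ᵥ (y - x) = 0 :=
    hφ _ (Submodule.mem_sup_right (Submodule.mem_span_singleton_self _))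
  have ht : tv (y - x) φ ∈ M := hHM ⟨tv_mem_stabilizer_of_axis
    (fun u hu => hφ u (Submodule.mem_sup_left hu)), tv_mem_specialLinear _ φ⟩
  have hC' := fullCenter_conj hxC ht
  rwa [tv_mulVec h0, hφx, one_smul, add_sub_cancel] at hC'

theorem subfield_maximal {F : Type*} [Field F] [Fintype F] {n : ℕ} (hn : 4 ≤ n) (F₀ : Subfield F) (r : ℕ)
    (hr : r.Prime) (hcard : Fintype.card F = Nat.card F₀ ^ r) (P : Matrix.GeneralLinearGroup (Fin n) F) :
    Cfsg.Geo.IsMaximalIn (Cfsg.Geo.specialLinear (Fin n) F)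
      (Cfsg.Geo.subfieldSubgroup F₀ P ⊓ Cfsg.Geo.specialLinear (Fin n) F) := by
  have h1 := Cfsg.Agent.S5639.maximal_one F₀ hn r hr hcard
  set c := (MulAut.conj P).toMonoidHom
  have hS : (Cfsg.Geo.specialLinear (Fin n) F).map c = Cfsg.Geo.specialLinear (Fin n) F := by
    have : (Cfsg.Geo.specialLinear (Fin n) F).Normal := MonoidHom.normal_ker _
    refine le_antisymm (Subgroup.map_le_iff_le_comap.2 fun x hx => this.conj_mem x hx P) fun x hx =>
      ⟨P⁻¹ * x * P, by simpa using this.conj_mem x hx P⁻¹, ?_⟩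
    show P * (P⁻¹ * x * P) * P⁻¹ = x
    group
  have hsub : (Cfsg.Geo.subfieldSubgroup F₀ 1).map c = Cfsg.Geo.subfieldSubgroup F₀ P := by
    simp [Cfsg.Geo.subfieldSubgroup, Subgroup.map_map, c]
    rfl
  have hinj : Function.Injective c := (MulAut.conj P).injective
  rw [← hS, ← hsub, ← Subgroup.map_inf _ _ c hinj]
  refine ⟨Subgroup.map_lt_map_iff_of_injective hinj |>.2 h1.1, fun M hHM hMK => ?_⟩
  have hM : (M.comap c).map c = M := Subgroup.map_comap_eq_self_of_surjective (MulAut.conj P).surjective M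
  rcases h1.2 (M.comap c) (Subgroup.map_le_iff_le_comap.1 hHM)
      (by rw [← Subgroup.map_le_map_iff_of_injective hinj, hM]; exact hMK) with h | h
  · left; rw [← h, hM]
  · right; rw [← h, hM]

theorem symplectic_maximal {F : Type*} [Field F] [Fintype F] {n : ℕ} (hn : 3 ≤ n)
    (f : (Fin n → F) → (Fin n → F) → F) (hf : Cfsg.Geo.IsSymplecticForm f) :
    Cfsg.Geo.IsMaximalIn (Cfsg.Geo.specialLinear (Fin n) F)
      (Cfsg.Geo.similarityGroup f ⊓ Cfsg.Geo.specialLinear (Fin n) F) := by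
  refine isMaximalIn_of inf_le_right (Cfsg.Agent.S5642.not_sim_exists hf (by rw [Fintype.card_fin]; omega)) ?_
  intro M hHM hMK g hgM hgH
  exact Cfsg.Agent.S5642.le_of_not_sim hf hHM hgM fun h => hgH ⟨h, hMK hgM⟩

theorem unitary_maximal {F : Type*} [Field F] [Fintype F] {n : ℕ} (hn : 6 ≤ n) (σ : F ≃+* F)
    (f : (Fin n → F) → (Fin n → F) → F) (hf : Cfsg.Geo.IsUnitaryForm σ f) :
    Cfsg.Geo.IsMaximalIn (Cfsg.Geo.specialLinear (Fin n) F)
      (Cfsg.Geo.similarityGroup f ⊓ Cfsg.Geo.specialLinear (Fin n) F) := by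
  refine isMaximalIn_of inf_le_right (Cfsg.Agent.S5643.not_sim_exists hf (by rw [Fintype.card_fin]; omega)) ?_
  intro M hHM hMK g hgM hgH
  exact Cfsg.Agent.S5643.le_of_not_sim hf (by rw [Fintype.card_fin]; omega) hHM hgM fun h => hgH ⟨h, hMK hgM⟩

open Cfsg.Agent.Lib.Subspaces.FormVec Cfsg.Agent.Lib.Subspaces.OrthForm in
theorem quad_maximal {F : Type*} [Field F] [Fintype F] {n : ℕ} (hn : 6 ≤ n) (hodd : Odd (Fintype.card F))
    (Q : (Fin n → F) → F) (hQ : Cfsg.Geo.IsNondegenerateQuadraticForm Q) :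
    Cfsg.Geo.IsMaximalIn (Cfsg.Geo.specialLinear (Fin n) F)
      (Cfsg.Geo.quadSimilarityGroup Q ⊓ Cfsg.Geo.specialLinear (Fin n) F) := by
  have h2 := two_ne_zero_of_odd hodd
  have hc : 6 ≤ Fintype.card (Fin n) := by rw [Fintype.card_fin]; omega
  refine isMaximalIn_of inf_le_right ?_ fun M hHM hMK g hgM hgH => ?_
  · obtain ⟨z0, -, -⟩ := exists_common_zero_not_mem (⊥ : Submodule F (Fin n → F)) (k := 0) ![]
      (by simp only [finrank_bot]; omega)
    have : Nonempty (Fin n) := ⟨⟨0, by omega⟩⟩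
    obtain ⟨z1, hz1⟩ := exists_ne (0 : Fin n → F)
    obtain ⟨w, hw, -, hwz⟩ := exists_singular hQ h2 (![] : Fin 0 → Fin n → F) (z := z1)
      (by simpa using hz1) (by omega)
    have hw0 : w ≠ 0 := fun e => by
      rw [e, form_zero_left (bil hQ)] at hwz
      exact zero_ne_one hwz
    obtain ⟨z, hz, -, hzw⟩ := exists_singular hQ h2 (![] : Fin 0 → Fin n → F) (z := w)
      (by simpa using hw0) (by omega)
    refine ⟨_, tv_mem_specialLinear w (formVec (QuadraticMap.polar Q) w), fun hm => ?_⟩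
    obtain ⟨c, hc'⟩ := hm.1
    have h0 : formVec (QuadraticMap.polar Q) w ⬝ᵥ w = 0 := by
      rw [formVec_dot (bil hQ), B_self hQ, hw, mul_zero]
    have := hc' z
    rw [tv_mulVec h0, formVec_dot (bil hQ), hzw, one_smul, Q_add (Q := Q), hz, hw, hzw,
      mul_zero, add_zero, zero_add] at this
    exact one_ne_zero this
  exact QuadSix.le_of_not_sim hQ h2 (by omega) (fun u w hu hwu => hHM ⟨⟨1, fun v => by
      rw [sieg_isometry hQ hu hwu, Units.val_one, one_mul]⟩, sieg_mem_specialLinear u w⟩) hgM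
    fun h => hgH ⟨h, hMK hgM⟩

theorem extField_maximal {F : Type*} [Field F] [Fintype F] {n r : ℕ} (hr : r.Prime) (hrn : r ∣ n)
    (hlt : r < n) (K : Subalgebra F (Matrix (Fin n) (Fin n) F)) (hK : Cfsg.Geo.IsFieldSubalgebra r K) :
    Cfsg.Geo.IsMaximalIn (Cfsg.Geo.specialLinear (Fin n) F)
      (Cfsg.Geo.subalgebraNormalizer K ⊓ Cfsg.Geo.specialLinear (Fin n) F) :=
  (Cfsg.Agent.S5886.result n r hr hrn hlt K hK).2

/-- Decomposition stabilisers in six dimensions on, when the field has not as many elements as there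
are coordinates. -/
theorem decomp_maximal {F : Type*} [Field F] [Fintype F] {n t m : ℕ} (hn : 6 ≤ n)
    (hqn : ¬ IsPrimePow n) (D : Fin t → Submodule F (Fin n → F)) (hD : Cfsg.Geo.IsMDecomposition m D)
    (h1 : m = 1 → 5 ≤ Fintype.card F) (h2 : m = 2 → 3 ≤ Fintype.card F) :
    Cfsg.Geo.IsMaximalIn (Cfsg.Geo.specialLinear (Fin n) F)
      (Cfsg.Geo.decompositionStabilizer D ⊓ Cfsg.Geo.specialLinear (Fin n) F) := by
  refine Cfsg.Agent.Lib.DecompMax.Main.maximal_of_six D hD (by rwa [Fintype.card_fin]) (Or.inr fun h => hqn ?_)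
    (fun h => ?_) (fun h => ?_)
  · rw [Fintype.card_fin] at h
    exact h ▸ FiniteField.isPrimePow_card F
  · have := h1 h.1; omega
  · have := h2 h.1; omega

theorem tensor_maximal {F : Type*} [Field F] [Fintype F] {n n₁ n₂ : ℕ} (h1 : 2 ≤ n₁) (h12 : n₁ < n₂)
    (hk : 3 ≤ n₂) (hq : n₁ = 2 → 3 ≤ Fintype.card F) (e : Fin n ≃ Fin n₁ × Fin n₂)
    (P : Matrix.GeneralLinearGroup (Fin n) F) :
    Cfsg.Geo.IsMaximalIn (Cfsg.Geo.specialLinear (Fin n) F)
      (Cfsg.Geo.tensorProductSubgroup n₁ n₂ e P ⊓ Cfsg.Geo.specialLinear (Fin n) F) :=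
  Cfsg.Agent.Lib.TensorMax.Main.maximal_of_three n n₁ n₂ hk h1 h12
    (fun h => by have := hq h.1; omega) e P

end Cfsg.Agent.Lib.GeomSmall
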