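import Cfsg.Agent.Lib.Subspaces.OrthForm

/-!
An overgroup of an orthogonal group in four dimensions is everything, odd characteristic.

If `g` is no similarity it moves a singular `u` to a non-singular `a`. A conjugate of the root group at `u`
fixes `a` and induces transvections on the quotient by `a`; comparing with isometries fixing `a` gives a
transvection. The isometries fixing its centre then give all transvections with that centre.
-/

set_option autoImplicit false

namespace Cfsg.Agent.Lib.GeomSmall.QuadFour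

open Matrix Cfsg.Agent.Lib.Subspaces.Transvection Cfsg.Agent.Lib.Subspaces.FormVec
  Cfsg.Agent.Lib.Subspaces.OrthForm

variable {ι : Type} [Fintype ι] [DecidableEq ι] {F : Type*} [Field F] [Finite F]
  {Q : (ι → F) → F}

local notation "B" => QuadraticMap.polar Q

variable (hQ : Cfsg.Geo.IsNondegenerateQuadraticForm Q) (h2 : (2 : F) ≠ 0)
  (hn : Fintype.card ι = 4)

/-! ### Vectors -/

include hQ in
omit [Finite F] in
theorem eq_smul_of_perp {u z : ι → F} (hu : u ≠ 0) (h : ∀ x, B x u = 0 → B x z = 0) :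
    ∃ c : F, z = c • u := by
  obtain ⟨c, hc⟩ := exists_smul_of_ker_le (formVec_ne_zero (bil hQ) hQ.nondegenerate hu)
    (ψ := formVec B z) fun x hx => by
      rw [formVec_dot (bil hQ)] at hx ⊢
      exact h x hx
  refine ⟨c, sub_eq_zero.mp (by_contra fun hne => ?_)⟩
  obtain ⟨⟨x, hx⟩, -⟩ := hQ.nondegenerate _ hne
  have := congrArg (fun φ => φ ⬝ᵥ x) hc
  simp only [smul_dotProduct, formVec_dot (bil hQ), smul_eq_mul] at this
  exact hx (by rw [sub_right hQ, hQ.polar_bilinear.smul_right, this, sub_self])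

omit [Finite F] in
theorem aniso_of_pair {y z : ι → F} (h : B y z ≠ 0) : Q y ≠ 0 ∨ Q z ≠ 0 ∨ Q (y + z) ≠ 0 := by
  by_contra hc
  push Not at hc
  exact h (by linear_combination (hc.2.2 : Q (y + z) = 0) - hc.1 - hc.2.1 - Q_add (Q := Q) y z)

include hQ hn in
omit [Finite F] in
/-- Three perpendicularity conditions leave a non-zero vector. -/
theorem exists_perp (a b c : ι → F) : ∃ k, k ≠ 0 ∧ B k a = 0 ∧ B k b = 0 ∧ B k c = 0 := by
  obtain ⟨k, hk, hks⟩ := exists_common_zero_not_mem (⊥ : Submodule F (ι → F))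
    ![formVec B a, formVec B b, formVec B c] (by rw [finrank_bot]; omega)
  refine ⟨k, by simpa using hk, ?_, ?_, ?_⟩
  · have := hks 0; simpa [formVec_dot (bil hQ)] using this
  · have := hks 1; simpa [formVec_dot (bil hQ)] using this
  · have := hks 2; simpa [formVec_dot (bil hQ)] using this

include hQ h2 hn in
/-- A singular vector perpendicular to a non-singular `v` with its partner. -/
theorem exists_pair {v : ι → F} (hv : Q v ≠ 0) :
    ∃ e f, Q e = 0 ∧ Q f = 0 ∧ B e v = 0 ∧ B f v = 0 ∧ B e f = 1 := by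
  have hb := hQ.polar_bilinear
  obtain ⟨e, he0, he, hev⟩ := exists_singular_mem hQ h2 ![v] (by omega)
  have hev' : B e v = 0 := hev 0
  obtain ⟨t, ht, hte⟩ := dual hQ (S := Submodule.span F {v}) (z := e) fun hm => by
    obtain ⟨c, rfl⟩ := Submodule.mem_span_singleton.mp hm
    rcases mul_eq_zero.mp ((hQ.smul c v).symm.trans he) with h | h
    · exact he0 (by rw [pow_eq_zero_iff (by norm_num)] at h; rw [h, zero_smul])
    · exact hv h
  refine ⟨e, t + (-Q t) • e, he, ?_, hev', ?_, ?_⟩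
  · rw [Q_add_smul hQ, he, hte]; ring
  · rw [hb.add_left, hb.smul_left, ht v (Submodule.mem_span_singleton_self v), hev']; ring
  · rw [hb.add_right, hb.smul_right, B_self hQ, he, B_comm, hte]; ring

include hQ in
omit [Finite F] in
/-- The component perpendicular to `v` and a hyperbolic pair. -/
theorem proj_spec (h2 : (2 : F) ≠ 0) {v e f : ι → F} (hv : Q v ≠ 0) (he : Q e = 0) (hf : Q f = 0)
    (hev : B e v = 0) (hfv : B f v = 0) (hef : B e f = 1) (z : ι → F) :
    B (z - (B z v / (2 * Q v)) • v - B z f • e - B z e • f) v = 0 ∧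
    B (z - (B z v / (2 * Q v)) • v - B z f • e - B z e • f) e = 0 ∧
    B (z - (B z v / (2 * Q v)) • v - B z f • e - B z e • f) f = 0 := by
  have hb := hQ.polar_bilinear
  have hl := bil hQ
  have hfe : B f e = 1 := by rw [B_comm, hef]
  have hve : B v e = 0 := by rw [B_comm, hev]
  have hvf : B v f = 0 := by rw [B_comm, hfv]
  refine ⟨?_, ?_, ?_⟩ <;>
    simp only [form_sub_left hl, hb.smul_left, B_self hQ, he, hf, hev, hfv, hef, hfe, hve, hvf]
  · field_simp; ring
  · ring
  · ring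

include hQ h2 hn in
/-- A singular vector perpendicular to a non-singular `v` and not to `y`. -/
theorem exists_sing_perp {v y : ι → F} (hv : Q v ≠ 0) (hy : y ∉ Submodule.span F {v}) :
    ∃ e, Q e = 0 ∧ B e v = 0 ∧ B e y ≠ 0 := by
  have hb := hQ.polar_bilinear
  obtain ⟨e, f, he, hf, hev, hfv, hef⟩ := exists_pair hQ h2 hn hv
  by_cases hey : B e y ≠ 0
  · exact ⟨e, he, hev, hey⟩
  by_cases hfy : B f y ≠ 0
  · exact ⟨f, hf, hfv, hfy⟩
  push Not at hey hfy
  have hfe : B f e = 1 := by rw [B_comm, hef]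
  have hne : ∃ z, B z (y - (B y v / (2 * Q v)) • v) ≠ 0 := by
    obtain ⟨⟨x, hx⟩, -⟩ := hQ.nondegenerate (y - (B y v / (2 * Q v)) • v) fun h =>
      hy (Submodule.mem_span_singleton.mpr ⟨_, (sub_eq_zero.mp h).symm⟩)
    exact ⟨x, hx⟩
  obtain ⟨z, hz⟩ := hne
  obtain ⟨hkv, hke, hkf⟩ := proj_spec hQ h2 hv he hf hev hfv hef z
  set k := z - (B z v / (2 * Q v)) • v - B z f • e - B z e • f with hk
  have hky : B k y ≠ 0 := fun h0 => hz (by
    rw [sub_right hQ, hb.smul_right]
    have h1 : B k y = B z y - B z v / (2 * Q v) * B v y := by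
      rw [hk, form_sub_left (bil hQ), form_sub_left (bil hQ), form_sub_left (bil hQ), hb.smul_left,
        hb.smul_left, hb.smul_left, hey, hfy]
      ring
    rw [h0, B_comm v y] at h1
    linear_combination -h1)
  refine ⟨f + (-Q k) • e + (1 : F) • k, ?_, ?_, ?_⟩
  · rw [Q_add_smul hQ, Q_add_smul hQ, hb.add_left, hb.smul_left, hf, he, hfe, B_comm f k, hkf,
      B_comm e k, hke]
    ring
  · rw [hb.add_left, hb.add_left, hb.smul_left, hb.smul_left, hfv, hev, hkv]; ring
  · rw [hb.add_left, hb.add_left, hb.smul_left, hb.smul_left, hfy, hey]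
    simpa using hky

include hQ h2 hn in
/-- A non-singular vector perpendicular to `v` and to a singular `e` perpendicular to `v`. -/
theorem exists_aniso_perp {v e f : ι → F} (hv : Q v ≠ 0) (he : Q e = 0) (hf : Q f = 0)
    (hev : B e v = 0) (hfv : B f v = 0) (hef : B e f = 1) :
    ∃ w, Q w ≠ 0 ∧ B w v = 0 ∧ B w e = 0 ∧ B w f = 0 := by
  have hb := hQ.polar_bilinear
  obtain ⟨k, hk0, hkv, hke, hkf⟩ := exists_perp hQ hn v e f
  obtain ⟨⟨z, hz⟩, -⟩ := hQ.nondegenerate k hk0
  obtain ⟨hzv, hze, hzf⟩ := proj_spec hQ h2 hv he hf hev hfv hef z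
  set z' := z - (B z v / (2 * Q v)) • v - B z f • e - B z e • f with hz'
  have hzk : B z' k ≠ 0 := by
    rw [hz', form_sub_left (bil hQ), form_sub_left (bil hQ), form_sub_left (bil hQ), hb.smul_left,
      hb.smul_left, hb.smul_left, B_comm v k, hkv, B_comm e k, hke, B_comm f k, hkf]
    simpa using hz
  rcases aniso_of_pair hzk with h | h | h
  · exact ⟨z', h, hzv, hze, hzf⟩
  · exact ⟨k, h, hkv, hke, hkf⟩
  · exact ⟨_, h, by rw [hb.add_left, hzv, hkv, add_zero], by rw [hb.add_left, hze, hke, add_zero],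
      by rw [hb.add_left, hzf, hkf, add_zero]⟩

include hQ h2 hn in
theorem span_singular_four : Submodule.span F {v : ι → F | Q v = 0} = ⊤ := by
  refine eq_top_iff.mpr fun z _ => ?_
  rcases eq_or_ne z 0 with rfl | hz
  · exact Submodule.zero_mem _
  obtain ⟨u, hu, -, huz⟩ := exists_singular hQ h2 (![] : Fin 0 → ι → F) (z := z) (by simpa using hz)
    (by omega)
  have h1 : Q (z + (-Q z) • u) = 0 := by rw [Q_add_smul hQ, hu, B_comm, huz]; ring
  have := Submodule.sub_mem _ (Submodule.subset_span (R := F) (s := {v | Q v = 0}) h1)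
    (Submodule.smul_mem _ (-Q z) (Submodule.subset_span (R := F) (s := {v | Q v = 0}) hu))
  rwa [add_sub_cancel_right] at this

/-! ### An element that moves a singular vector off the quadric -/

include hQ h2 hn in
theorem exists_moved {g : GL ι F} (hg : g ∉ Cfsg.Geo.quadSimilarityGroup Q) :
    ∃ u, u ≠ 0 ∧ Q u = 0 ∧ Q ((g : Matrix ι ι F) *ᵥ u) ≠ 0 := by
  have hb := hQ.polar_bilinear
  by_contra hc
  push Not at hc
  have hall : ∀ x, Q x = 0 → Q ((g : Matrix ι ι F) *ᵥ x) = 0 := fun x hx => by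
    rcases eq_or_ne x 0 with rfl | h
    · rw [mulVec_zero, Q_zero hQ]
    · exact hc x h hx
  have : Nonempty ι := Fintype.card_pos_iff.mp (by omega)
  obtain ⟨z0, hz0⟩ := exists_ne (0 : ι → F)
  obtain ⟨u, hu, -, huz⟩ := exists_singular hQ h2 (![] : Fin 0 → ι → F) (z := z0) (by simpa using hz0)
    (by omega)
  have hu0 : u ≠ 0 := fun e => zero_ne_one (by rw [← huz, e, form_zero_left (bil hQ)] : (0 : F) = 1)
  obtain ⟨v, hv, -, hvu⟩ := exists_singular hQ h2 (![] : Fin 0 → ι → F) (z := u) (by simpa using hu0)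
    (by omega)
  have huv : B u v = 1 := by rw [B_comm, hvu]
  let G : (ι → F) → (ι → F) := fun x => (g : Matrix ι ι F) *ᵥ x
  have hG : ∀ (x : ι → F) (s : F) (y : ι → F), G (x + s • y) = G x + s • G y := fun x s y => by
    show _ *ᵥ _ = _
    rw [mulVec_add, mulVec_smul]
  set c := B (G u) (G v) with hcd
  -- the two linear forms on the plane perpendicular to `u` and `v`
  let K : (ι → F) → Prop := fun k => B k u = 0 ∧ B k v = 0
  have hid : ∀ k, K k → Q (G k) = c * Q k ∧ B (G u) (G k) = Q k * B (G v) (G k) := by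
    intro k hk
    have key : ∀ t : F, t ≠ 0 →
        Q (G k) - c * Q k + t * B (G u) (G k) + (-Q k / t) * B (G v) (G k) = 0 := by
      intro t ht
      have hrt : -Q k / t * t = -Q k := div_mul_cancel₀ _ ht
      have h := hall (k + t • u + (-Q k / t) • v) (by
        rw [Q_add_smul hQ, Q_add_smul hQ, hb.add_left, hb.smul_left, hu, hv, hk.1, hk.2, huv]
        field_simp; ring)
      change Q (G (k + t • u + (-Q k / t) • v)) = 0 at h
      rw [hG, hG, Q_add_smul hQ, Q_add_smul hQ, hb.add_left, hb.smul_left,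
        show Q (G u) = 0 from hall u hu, show Q (G v) = 0 from hall v hv, ← hcd,
        B_comm (G k) (G u), B_comm (G k) (G v)] at h
      linear_combination h - c * hrt
    have h1 := key 1 one_ne_zero
    have h3 := key (-1) (neg_ne_zero.mpr one_ne_zero)
    simp only [div_one, div_neg, one_mul] at h1 h3
    refine ⟨?_, ?_⟩
    · refine sub_eq_zero.mp (mul_left_cancel₀ h2 ?_)
      linear_combination h1 + h3
    · refine sub_eq_zero.mp (mul_left_cancel₀ h2 ?_)
      linear_combination h1 - h3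
  have hKadd : ∀ {k l}, K k → K l → ∀ s : F, K (k + s • l) := fun hk hl s =>
    ⟨by rw [hb.add_left, hb.smul_left, hk.1, hl.1, mul_zero, add_zero],
      by rw [hb.add_left, hb.smul_left, hk.2, hl.2, mul_zero, add_zero]⟩
  have hproj : ∀ x, K (x - B x v • u - B x u • v) := fun x => by
    refine ⟨?_, ?_⟩
    · rw [form_sub_left (bil hQ), form_sub_left (bil hQ), hb.smul_left, hb.smul_left, B_self hQ, hu,
        hvu]; ring
    · rw [form_sub_left (bil hQ), form_sub_left (bil hQ), hb.smul_left, hb.smul_left, B_self hQ, hv,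
        huv]; ring
  -- the forms vanish
  have hbeta : ∀ k, K k → B (G v) (G k) = 0 := by
    by_contra hne
    push Not at hne
    obtain ⟨k, hk, hkne⟩ := hne
    -- a vector of the plane killed by the form
    obtain ⟨l₀, hl₀0, hl₀u, hl₀v, hl₀k⟩ : ∃ l, l ≠ 0 ∧ B l u = 0 ∧ B l v = 0 ∧
        B (G v) (G l) = 0 := by
      obtain ⟨l, hl, hls⟩ := exists_common_zero_not_mem (⊥ : Submodule F (ι → F))
        ![formVec B u, formVec B v, formVec B (G v) ᵥ* (g : Matrix ι ι F)] (by rw [finrank_bot]; omega)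
      refine ⟨l, by simpa using hl, ?_, ?_, ?_⟩
      · have := hls 0; simpa [formVec_dot (bil hQ)] using this
      · have := hls 1; simpa [formVec_dot (bil hQ)] using this
      · have := hls 2
        rw [B_comm, ← formVec_dot (bil hQ), dotProduct_mulVec]
        simpa using this
    have hl : K l₀ := ⟨hl₀u, hl₀v⟩
    have hp := (hid _ (hKadd hk hl 1)).2
    have hm := (hid _ (hKadd hk hl (-1))).2
    rw [hG, hb.add_right, hb.add_right, hb.smul_right, hb.smul_right, (hid _ hk).2, (hid _ hl).2,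
      hl₀k, Q_add_smul hQ] at hp hm
    obtain ⟨⟨z, hz⟩, -⟩ := hQ.nondegenerate l₀ hl₀0
    set z' := z - B z v • u - B z u • v
    have hz' : B z' l₀ ≠ 0 := by
      rw [form_sub_left (bil hQ), form_sub_left (bil hQ), hb.smul_left, hb.smul_left, B_comm u,
        hl₀u, B_comm v, hl₀v]
      simpa using hz
    have hgen : ∀ k', K k' → B (G v) (G k') * B k' l₀ = 0 ∧ B (G v) (G k') * Q l₀ = 0 := by
      intro k' hk'
      have hp := (hid _ (hKadd hk' hl 1)).2
      have hm := (hid _ (hKadd hk' hl (-1))).2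
      rw [hG, hb.add_right, hb.add_right, hb.smul_right, hb.smul_right, (hid _ hk').2, (hid _ hl).2,
        hl₀k, Q_add_smul hQ] at hp hm
      refine ⟨?_, ?_⟩
      · refine (mul_eq_zero.mp (?_ : (2 : F) * _ = 0)).resolve_left h2
        linear_combination hm - hp
      · refine (mul_eq_zero.mp (?_ : (2 : F) * _ = 0)).resolve_left h2
        linear_combination -hm - hp
    have hz0 := (hgen z' (hproj z)).1
    have hzero : B (G v) (G z') = 0 := (mul_eq_zero.mp hz0).resolve_right hz'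
    have h3 := (hgen _ (hKadd hk (hproj z) 1)).1
    rw [hG, hb.add_right, hb.smul_right, hzero, mul_zero, add_zero, hb.add_left, hb.smul_left,
      one_mul, mul_add, (hgen k hk).1, zero_add] at h3
    exact mul_ne_zero hkne hz' h3
  -- conclusion
  have hval : ∀ x, Q (G x) = c * Q x := by
    intro x
    have hk := hproj x
    set k := x - B x v • u - B x u • v with hkd
    have ha : B (G u) (G k) = 0 := by rw [(hid k hk).2, hbeta k hk, mul_zero]
    have e : x = k + B x v • u + B x u • v := by rw [hkd]; abel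
    have hku : B k u = 0 := hk.1
    have hkv : B k v = 0 := hk.2
    conv_lhs => rw [e]
    conv_rhs => rw [e]
    rw [hG, hG, Q_add_smul hQ, Q_add_smul hQ, Q_add_smul hQ, Q_add_smul hQ, hb.add_left,
      hb.add_left, hb.smul_left, hb.smul_left, show Q (G u) = 0 from hall u hu,
      show Q (G v) = 0 from hall v hv, hu, hv, (hid k hk).1, hku, hkv, huv, B_comm (G k) (G u), ha,
      B_comm (G k) (G v), hbeta k hk, ← hcd]
    ring
  refine hg ⟨Units.mk0 c fun e => ?_, fun x => by rw [Units.val_mk0]; exact hval x⟩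
  have h := hval (((g⁻¹ : GL ι F) : Matrix ι ι F) *ᵥ (u + v))
  rw [e, zero_mul] at h
  simp only [G, gl_mulVec_inv, Q_add (Q := Q), hu, hv, huv, zero_add] at h
  exact one_ne_zero h

/-! ### Transvections in an overgroup -/

omit [Finite F] in
/-- Two elements of determinant one differing by a multiple of `v` give a transvection. -/
theorem diff_tv {M : Subgroup (GL ι F)} (hdet : ∀ g ∈ M, (g : Matrix ι ι F).det = 1) {T X : GL ι F}
    (hT : T ∈ M) (hX : X ∈ M) {v : ι → F} (hv : v ≠ 0)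
    (h : ∀ x, ∃ c : F, (T : Matrix ι ι F) *ᵥ x = (X : Matrix ι ι F) *ᵥ x + c • v) (hne : T ≠ X) :
    ∃ χ : ι → F, χ ≠ 0 ∧ χ ⬝ᵥ v = 0 ∧ tv v χ ∈ M := by
  set Y := T * X⁻¹ with hY
  have hYM : Y ∈ M := M.mul_mem hT (M.inv_mem hX)
  have hYx : ∀ x, ∃ c : F, (Y : Matrix ι ι F) *ᵥ x = x + c • v := fun x => by
    obtain ⟨c, hc⟩ := h (((X⁻¹ : GL ι F) : Matrix ι ι F) *ᵥ x)
    exact ⟨c, by rw [hY, gl_mul_mulVec, hc, gl_mulVec_inv]⟩
  obtain ⟨i, hi⟩ := Function.ne_iff.mp hv
  simp only [Pi.zero_apply] at hi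
  set χ : ι → F := fun j => ((Y : Matrix ι ι F) i j - (1 : Matrix ι ι F) i j) / v i with hχ
  have hmat : (Y : Matrix ι ι F) = 1 + vecMulVec v χ := by
    ext a b
    obtain ⟨c, hc⟩ := hYx (Pi.single b 1)
    rw [mulVec_single_one] at hc
    have hia := congrFun hc i
    have hca := congrFun hc a
    simp only [Matrix.col_apply, Pi.add_apply, Pi.smul_apply, smul_eq_mul] at hia hca
    have h1 : ∀ a, (Pi.single b (1 : F) : ι → F) a = (1 : Matrix ι ι F) a b := fun a => by
      simp [Matrix.one_apply, Pi.single_apply]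
    rw [h1] at hia hca
    rw [Matrix.add_apply, vecMulVec_apply, hca]
    simp only [hχ, hia]
    field_simp
    ring
  have hd : χ ⬝ᵥ v = 0 := by
    have := hdet Y hYM
    rwa [hmat, vecMulVec_eq Unit, det_one_add_replicateCol_mul_replicateRow, add_eq_left] at this
  refine ⟨χ, fun e => hne ?_, hd, ?_⟩
  · have : Y = 1 := Units.ext (by rw [hmat, e]; simp)
    rwa [hY, mul_inv_eq_one] at this
  · rwa [← show Y = tv v χ from Units.ext (by rw [coe_tv hd, hmat])]

/-- The reflection in a non-singular vector, as a matrix. -/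
noncomputable def refl (Q : (ι → F) → F) (v : ι → F) : Matrix ι ι F :=
  1 + vecMulVec v (-(Q v)⁻¹ • formVec (QuadraticMap.polar Q) v)

include hQ in
omit [Finite F] in
theorem refl_mulVec (v x : ι → F) : refl Q v *ᵥ x = x + (-(Q v)⁻¹ * B x v) • v := by
  rw [refl, add_mulVec, one_mulVec, vecMulVec_mulVec, op_smul_eq_smul, smul_dotProduct,
    formVec_dot (bil hQ), smul_eq_mul]

include hQ in
omit [Finite F] in
theorem refl_det {v : ι → F} (hv : Q v ≠ 0) : (refl Q v).det = -1 := by
  rw [refl, vecMulVec_eq Unit, det_one_add_replicateCol_mul_replicateRow, smul_dotProduct,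
    formVec_dot (bil hQ), B_self hQ, smul_eq_mul]
  field_simp
  ring

include hQ in
omit [Finite F] in
theorem refl_isometry {v : ι → F} (hv : Q v ≠ 0) (x : ι → F) : Q (refl Q v *ᵥ x) = Q x := by
  rw [refl_mulVec hQ, Q_add_smul hQ]
  field_simp
  ring

variable {M : Subgroup (GL ι F)}
  (hdet : ∀ g ∈ M, (g : Matrix ι ι F).det = 1)
  (hiso : ∀ g : GL ι F, (g : Matrix ι ι F).det = 1 → (∀ x, Q ((g : Matrix ι ι F) *ᵥ x) = Q x) → g ∈ M)

include hQ hiso in
omit [Finite F] in
theorem sieg_mem {u w : ι → F} (hu : Q u = 0) (hwu : B w u = 0) : sieg Q u w ∈ M :=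
  hiso _ ((mem_specialLinear_iff _).mp (sieg_mem_specialLinear u w)) (sieg_isometry hQ hu hwu)

include hQ h2 hn hdet hiso in
theorem exists_tv {g : GL ι F} (hgM : g ∈ M) (hg : g ∉ Cfsg.Geo.quadSimilarityGroup Q) :
    ∃ v χ : ι → F, v ≠ 0 ∧ χ ≠ 0 ∧ χ ⬝ᵥ v = 0 ∧ tv v χ ∈ M := by
  have hb := hQ.polar_bilinear
  obtain ⟨u, hu0, hu, hua⟩ := exists_moved hQ h2 hn hg
  set a := (g : Matrix ι ι F) *ᵥ u with had
  set H := ((g⁻¹ : GL ι F) : Matrix ι ι F) with hH
  have hHa : H *ᵥ a = u := gl_inv_mulVec g u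
  have ha0 : a ≠ 0 := fun e => hua (by rw [e, Q_zero hQ])
  set φ : (ι → F) → F := fun x => B (H *ᵥ x) u with hφ
  set ψ : (ι → F) → (ι → F) → F := fun b x =>
    -B (H *ᵥ x) (H *ᵥ b) - Q (H *ᵥ b) * φ x with hψ
  let X : (ι → F) → GL ι F := fun b => g * sieg Q u (H *ᵥ b) * g⁻¹
  have hXM : ∀ b, φ b = 0 → X b ∈ M := fun b hb' =>
    M.mul_mem (M.mul_mem hgM (sieg_mem hQ hiso hu hb')) (M.inv_mem hgM)
  have hXx : ∀ b, φ b = 0 → ∀ x, (X b : Matrix ι ι F) *ᵥ x = x + φ x • b + ψ b x • a := by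
    intro b hb' x
    rw [gl_mul_mulVec, gl_mul_mulVec, sieg_mulVec hQ hu hb', mulVec_add, mulVec_add, mulVec_smul,
      mulVec_smul, hH, gl_mulVec_inv, gl_mulVec_inv, ← had]
  have hφadd : ∀ x y (s : F), φ (x + s • y) = φ x + s * φ y := fun x y s => by
    simp only [hφ, mulVec_add, mulVec_smul, hb.add_left, hb.smul_left]
  have hφa : φ a = 0 := by simp only [hφ, hHa, B_self hQ, hu, mul_zero]
  -- nothing in the kernel of `φ` other than multiples of `a` is orthogonal to the kernel
  have hperp : ∀ y, φ y = 0 → B y a = 0 → y ≠ 0 →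
      ∃ x, φ x = 0 ∧ B x a = 0 ∧ B (H *ᵥ x) (H *ᵥ y) ≠ 0 := by
    intro y hy hya hy0
    by_contra hc
    push Not at hc
    obtain ⟨c, hc'⟩ := eq_smul_of_perp hQ hu0 (z := H *ᵥ y) fun x' hx' => by
      set x := (g : Matrix ι ι F) *ᵥ x'
      have hx : H *ᵥ x = x' := gl_inv_mulVec g x'
      set s := -(B x a / (2 * Q a))
      have h1 := hc (x + s • a) (by rw [hφadd, hφa, mul_zero, add_zero]; simp only [hφ, hx]; exact hx') (by
        rw [hb.add_left, hb.smul_left, B_self hQ]
        simp only [s]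
        field_simp
        ring)
      rw [mulVec_add, mulVec_smul, hb.add_left, hb.smul_left, hx, hHa, B_comm u,
        show B (H *ᵥ y) u = 0 from hy, mul_zero, add_zero] at h1
      exact h1
    have : y = c • a := by
      rw [had, ← mulVec_smul, ← hc', hH, gl_mulVec_inv]
    rw [this, hb.smul_left, B_self hQ] at hya
    rcases mul_eq_zero.mp hya with h | h
    · exact hy0 (by rw [this, h, zero_smul])
    · exact mul_ne_zero h2 hua h
  by_cases hR : ∃ d b, φ d = 0 ∧ B d a = 0 ∧ φ b = 0 ∧ B b a = 0 ∧ B b d = 0 ∧ Q d ≠ 0 ∧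
      Q (H *ᵥ b) ≠ 0
  · obtain ⟨d, b, hd, hda, hbφ, hba, hbd, hQd, hQb⟩ := hR
    set R := refl Q a * refl Q d with hR'
    have hRd : R.det = 1 := by rw [hR', det_mul, refl_det hQ hua, refl_det hQ hQd]; ring
    set r := Matrix.GeneralLinearGroup.mkOfDetNeZero R (by rw [hRd]; exact one_ne_zero)
    have hrR : (r : Matrix ι ι F) = R := rfl
    have hrM : r ∈ M := hiso r (by rw [hrR, hRd]) fun x => by
      rw [hrR, hR', ← mulVec_mulVec, refl_isometry hQ hua, refl_isometry hQ hQd]
    have hrx : ∀ x, (r : Matrix ι ι F) *ᵥ x =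
        x + (-(Q d)⁻¹ * B x d) • d + (-(Q a)⁻¹ * B x a) • a := fun x => by
      rw [hrR, hR', ← mulVec_mulVec, refl_mulVec hQ d, refl_mulVec hQ a, hb.add_left, hb.smul_left,
        hda, mul_zero, add_zero]
    have hra : (r : Matrix ι ι F) *ᵥ a = -a := by
      rw [hrx, B_comm a d, hda, B_self hQ, mul_zero, zero_smul, add_zero,
        show -(Q a)⁻¹ * (2 * Q a) = -2 by field_simp]
      module
    have hrb : (r : Matrix ι ι F) *ᵥ b = b := by
      rw [hrx, hbd, hba]; simp
    have hrr : ∀ x, (r : Matrix ι ι F) *ᵥ ((r : Matrix ι ι F) *ᵥ x) = x := fun x => by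
      rw [hrx ((r : Matrix ι ι F) *ᵥ x), hrx x, hb.add_left, hb.add_left, hb.add_left, hb.add_left,
        hb.smul_left, hb.smul_left, hb.smul_left, hb.smul_left, hda, B_comm a d, hda, B_self hQ,
        B_self hQ]
      match_scalars <;> field_simp <;> ring
    have hφr : ∀ x, φ ((r : Matrix ι ι F) *ᵥ x) = φ x := fun x => by
      rw [hrx, hφadd, hφadd, hd, hφa]; ring
    have hTx : ∀ x, ((r * X b * r : GL ι F) : Matrix ι ι F) *ᵥ x =
        x + φ x • b - ψ b ((r : Matrix ι ι F) *ᵥ x) • a := fun x => by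
      rw [gl_mul_mulVec, gl_mul_mulVec, hXx b hbφ, mulVec_add, mulVec_add, mulVec_smul, mulVec_smul,
        hrr, hrb, hra, hφr, smul_neg]
      abel
    obtain ⟨χ, h⟩ := diff_tv hdet (M.mul_mem (M.mul_mem hrM (hXM b hbφ)) hrM) (hXM b hbφ) ha0
      (fun x => ⟨-ψ b ((r : Matrix ι ι F) *ᵥ x) - ψ b x, by rw [hTx, hXx b hbφ]; module⟩) (fun e => by
        have := congrArg (fun T : GL ι F => (T : Matrix ι ι F) *ᵥ b) e
        simp only [hTx, hXx b hbφ, hrb, hbφ, zero_smul, add_zero, sub_eq_add_neg, ← neg_smul] at this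
        have h0 := smul_left_injective F ha0 (add_left_cancel this)
        simp only [hψ, hbφ, B_self hQ] at h0
        exact mul_ne_zero (mul_ne_zero h2 h2) hQb (by linear_combination h0))
    exact ⟨a, χ, ha0, h⟩
  push Not at hR
  by_cases hdeg : ∃ r, r ≠ 0 ∧ φ r = 0 ∧ B r a = 0 ∧ ∀ y, φ y = 0 → B y a = 0 → B y r = 0
  · obtain ⟨r, hr0, hrφ, hra, hrad⟩ := hdeg
    have hQr : Q r = 0 := (mul_eq_zero.mp ((B_self hQ r).symm.trans (hrad r hrφ hra))).resolve_left h2
    -- the kernel is not totally singular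
    obtain ⟨z, hz, hza, hQz⟩ : ∃ z, φ z = 0 ∧ B z a = 0 ∧ Q z ≠ 0 := by
      by_contra hc
      push Not at hc
      obtain ⟨e, f, he, hf, hea, hfa, hef⟩ := exists_pair hQ h2 hn hua
      obtain ⟨w, hQw, hwa, hwe, hwf⟩ := exists_aniso_perp hQ h2 hn hua he hf hea hfa hef
      by_cases hwφ : φ w = 0
      · exact hQw (hc w hwφ hwa)
      by_cases heφ : φ e = 0
      · by_cases hfφ : φ f = 0
        · have := hc (e + (1 : F) • f) (by rw [hφadd, heφ, hfφ]; ring)
            (by rw [hb.add_left, hb.smul_left, hea, hfa]; ring)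
          rw [Q_add_smul hQ, he, hf, hef] at this
          exact one_ne_zero (α := F) (by linear_combination this)
        · have := hc (w + (-(φ w / φ f)) • f) (by rw [hφadd]; field_simp; ring)
            (by rw [hb.add_left, hb.smul_left, hwa, hfa]; ring)
          rw [Q_add_smul hQ, hf, hwf] at this
          exact hQw (by linear_combination this)
      · have := hc (w + (-(φ w / φ e)) • e) (by rw [hφadd]; field_simp; ring)
          (by rw [hb.add_left, hb.smul_left, hwa, hea]; ring)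
        rw [Q_add_smul hQ, he, hwe] at this
        exact hQw (by linear_combination this)
    have hQ2r : Q (H *ᵥ r) = 0 :=
      hR z r hz hza hrφ hra (by rw [B_comm]; exact hrad z hz hza) hQz
    have hrr : ∀ y, φ y = 0 → B y a = 0 → Q y ≠ 0 → B (H *ᵥ y) (H *ᵥ r) ≠ 0 →
        ∃ v χ : ι → F, v ≠ 0 ∧ χ ≠ 0 ∧ χ ⬝ᵥ v = 0 ∧ tv v χ ∈ M := by
      intro y hy hya hQy h0
      have hyr' : B y r = 0 := hrad y hy hya
      set s := sieg Q r y with hs
      have hsM : s ∈ M := sieg_mem hQ hiso hQr hyr'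
      have hsx : ∀ x, (s : Matrix ι ι F) *ᵥ x =
          x + B x r • y + (-(B x y) - Q y * B x r) • r := sieg_mulVec hQ hQr hyr'
      have hφs : ∀ x, φ ((s : Matrix ι ι F) *ᵥ x) = φ x := fun x => by
        rw [hsx, hφadd, hφadd, hy, hrφ]; ring
      set y' := (s : Matrix ι ι F) *ᵥ y with hy'
      have hy'φ : φ y' = 0 := by rw [hy', hφs, hy]
      have hy'v : y' = y + (-(2 * Q y)) • r := by
        rw [hy', hsx, hyr', B_self hQ]; simp
      have hsa : (s : Matrix ι ι F) *ᵥ a = a := by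
        rw [hsx, B_comm a r, hra, B_comm a y, hya]; simp
      have hTx : ∀ x, ((s * X y * s⁻¹ : GL ι F) : Matrix ι ι F) *ᵥ x =
          x + φ x • y' + ψ y (((s⁻¹ : GL ι F) : Matrix ι ι F) *ᵥ x) • a := fun x => by
        rw [gl_mul_mulVec, gl_mul_mulVec, hXx y hy, mulVec_add, mulVec_add, mulVec_smul, mulVec_smul,
          gl_mulVec_inv, hsa, ← hy']
        congr 3
        rw [← hφs, gl_mulVec_inv]
      obtain ⟨χ, h⟩ := diff_tv hdet (M.mul_mem (M.mul_mem hsM (hXM y hy)) (M.inv_mem hsM))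
        (hXM y' hy'φ) ha0
        (fun x => ⟨ψ y (((s⁻¹ : GL ι F) : Matrix ι ι F) *ᵥ x) - ψ y' x, by
          rw [hTx, hXx y' hy'φ]; module⟩) (fun e => by
        have := congrArg (fun T : GL ι F => (T : Matrix ι ι F) *ᵥ y') e
        rw [hTx, hXx y' hy'φ, add_right_inj] at this
        have h1 := smul_left_injective F ha0 this
        rw [hy', gl_inv_mulVec, ← hy'] at h1
        simp only [hψ, hy, hy'φ] at h1
        rw [hy'v] at h1
        simp only [mulVec_add, mulVec_smul, hb.add_left, hb.add_right, hb.smul_left, hb.smul_right,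
          B_self hQ, hQ2r, B_comm (H *ᵥ r) (H *ᵥ y)] at h1
        exact mul_ne_zero (mul_ne_zero (mul_ne_zero h2 h2) hQy) h0 (by linear_combination -h1))
      exact ⟨a, χ, ha0, h⟩
    obtain ⟨x, hx, hxa, hxr⟩ := hperp r hrφ hra hr0
    by_cases hQx : Q x ≠ 0
    · exact hrr x hx hxa hQx hxr
    push Not at hQx
    by_cases hzr : B (H *ᵥ z) (H *ᵥ r) ≠ 0
    · exact hrr z hz hza hQz hzr
    push Not at hzr
    have hs : ∀ s : F, φ (x + s • z) = 0 ∧ B (x + s • z) a = 0 ∧
        B (H *ᵥ (x + s • z)) (H *ᵥ r) ≠ 0 := fun s =>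
      ⟨by rw [hφadd, hx, hz]; ring, by rw [hb.add_left, hb.smul_left, hxa, hza]; ring,
        by rw [mulVec_add, mulVec_smul, hb.add_left, hb.smul_left, hzr, mul_zero, add_zero]; exact hxr⟩
    by_cases h1 : Q (x + (1 : F) • z) ≠ 0
    · exact hrr _ (hs 1).1 (hs 1).2.1 h1 (hs 1).2.2
    push Not at h1
    refine hrr _ (hs (-1)).1 (hs (-1)).2.1 (fun h3 => mul_ne_zero h2 hQz ?_) (hs (-1)).2.2
    rw [Q_add_smul hQ, hQx] at h1 h3
    linear_combination h1 + h3
  push Not at hdeg
  -- a hyperbolic pair in the kernel, or the plane is anisotropic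
  have hcase : ∃ e f, φ e = 0 ∧ B e a = 0 ∧ φ f = 0 ∧ B f a = 0 ∧ Q e = 0 ∧ Q f = 0 ∧ B e f = 1 := by
    by_contra hc
    have hanis : ∀ y, φ y = 0 → B y a = 0 → y ≠ 0 → Q y ≠ 0 := by
      intro y hy hya hy0 hQy
      obtain ⟨x, hx, hxa, hxy⟩ := hdeg y hy0 hy hya
      set t := (B x y)⁻¹ • x with ht
      have hty : B t y = 1 := by rw [ht, hb.smul_left, inv_mul_cancel₀ hxy]
      clear_value t
      refine hc ⟨y, t + (-Q t) • y, hy, hya, ?_, ?_, hQy, ?_, ?_⟩
      · rw [hφadd, hy, show t = 0 + (B x y)⁻¹ • x by rw [zero_add, ht], hφadd, hx]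
        simp [hφ, form_zero_left (bil hQ)]
      · simp only [hb.add_left, hb.smul_left, hya, ht, hxa]; ring
      · rw [Q_add_smul hQ, hQy, hty]; ring
      · rw [hb.add_right, hb.smul_right, B_comm y t, B_self hQ, hty, hQy]; ring
    have hzero : ∀ y, φ y = 0 → B y a = 0 → Q (H *ᵥ y) = 0 := by
      intro y hy hya
      rcases eq_or_ne y 0 with rfl | hy0
      · rw [mulVec_zero, Q_zero hQ]
      obtain ⟨d, hd, hds⟩ := exists_common_zero_not_mem (⊥ : Submodule F (ι → F))
        ![formVec B u ᵥ* H, formVec B a, formVec B y] (by rw [finrank_bot]; omega)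
      have h0 : φ d = 0 := by
        have := hds 0
        simpa [hφ, ← dotProduct_mulVec, formVec_dot (bil hQ)] using this
      have h1 : B d a = 0 := by
        have := hds 1
        simpa [formVec_dot (bil hQ)] using this
      have h3 : B d y = 0 := by
        have := hds 2
        simpa [formVec_dot (bil hQ)] using this
      exact hR d y h0 h1 hy hya (by rw [B_comm]; exact h3) (hanis d h0 h1 (by simpa using hd))
    obtain ⟨d, hd0, hds⟩ := exists_common_zero_not_mem (⊥ : Submodule F (ι → F))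
      ![formVec B u ᵥ* H, formVec B a] (by rw [finrank_bot]; omega)
    have h0 : φ d = 0 := by
      have := hds 0
      simpa [hφ, ← dotProduct_mulVec, formVec_dot (bil hQ)] using this
    have h1 : B d a = 0 := by
      have := hds 1
      simpa [formVec_dot (bil hQ)] using this
    obtain ⟨x, hx, hxa, hxd⟩ := hperp d h0 h1 (by simpa using hd0)
    have h3 := hzero (x + (1 : F) • d) (by rw [hφadd, hx, h0]; ring)
      (by rw [hb.add_left, hb.smul_left, hxa, h1]; ring)
    rw [mulVec_add, one_smul, Q_add (Q := Q), hzero x hx hxa, hzero d h0 h1] at h3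
    exact hxd (by linear_combination h3)
  obtain ⟨e, f, heφ, hea, hfφ, hfa, he, hf, hef⟩ := hcase
  have hfe : B f e = 1 := by rw [B_comm, hef]
  -- the transformed form is diagonal on the pair
  have hef' : B (H *ᵥ e) (H *ᵥ f) = 0 := by
    have key : ∀ s : F, s * s = 1 →
        Q (H *ᵥ e) + Q (H *ᵥ f) + s * B (H *ᵥ e) (H *ᵥ f) = 0 := by
      intro s hs
      have hm : ∀ t : F, φ (e + t • f) = 0 ∧ B (e + t • f) a = 0 := fun t =>
        ⟨by rw [hφadd, heφ, hfφ]; ring, by rw [hb.add_left, hb.smul_left, hea, hfa]; ring⟩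
      have := hR (e + (-s) • f) (e + s • f) (hm _).1 (hm _).2 (hm _).1 (hm _).2
        (by simp only [hb.add_left, hb.add_right, hb.smul_left, hb.smul_right, B_self hQ, he, hf,
              hef, hfe]; ring)
        (by rw [Q_add_smul hQ, he, hf, hef]
            intro h0
            exact one_ne_zero (α := F) (by linear_combination hs.symm - s * h0))
      rw [mulVec_add, mulVec_smul, Q_add_smul hQ] at this
      linear_combination this - Q (H *ᵥ f) * hs
    refine (mul_eq_zero.mp (?_ : (2 : F) * _ = 0)).resolve_left h2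
    linear_combination key 1 (one_mul 1) - key (-1) (by ring)
  obtain ⟨z, hz⟩ : ∃ z, φ z ≠ 0 := by
    obtain ⟨⟨x, hx⟩, -⟩ := hQ.nondegenerate u hu0
    exact ⟨(g : Matrix ι ι F) *ᵥ x, by simp only [hφ, hH, gl_inv_mulVec]; exact hx⟩
  obtain ⟨hca, hce, hcf⟩ := proj_spec hQ h2 hua he hf hea hfa hef z
  set c := z - (B z a / (2 * Q a)) • a - B z f • e - B z e • f with hc
  have hφc : φ c ≠ 0 := by
    have : φ c = φ z := by
      have e1 : c = z + (-(B z a / (2 * Q a))) • a + (-(B z f)) • e + (-(B z e)) • f := by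
        rw [hc]; module
      rw [e1, hφadd, hφadd, hφadd, hφa, heφ, hfφ]; ring
    rwa [this]
  set h := sieg Q f c with hh
  have hhM : h ∈ M := sieg_mem hQ hiso hf hcf
  have hhx : ∀ x, (h : Matrix ι ι F) *ᵥ x =
      x + B x f • c + (-(B x c) - Q c * B x f) • f := sieg_mulVec hQ hf hcf
  have hha : (h : Matrix ι ι F) *ᵥ a = a := by
    rw [hhx, B_comm a f, hfa, B_comm a c, hca]; simp
  have hhf : (h : Matrix ι ι F) *ᵥ f = f := by
    rw [hhx, B_self hQ, hf, B_comm f c, hcf]; simp
  set e' := (h : Matrix ι ι F) *ᵥ e with he'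
  have hφe' : φ e' = φ c := by
    rw [he', hhx, hφadd, hφadd, heφ, hfφ, hef]; ring
  set Z := h * X e * h⁻¹ with hZ
  have hZM : Z ∈ M := M.mul_mem (M.mul_mem hhM (hXM e heφ)) (M.inv_mem hhM)
  set φ' : (ι → F) → F := fun x => φ (((h⁻¹ : GL ι F) : Matrix ι ι F) *ᵥ x)
  set χ' : (ι → F) → F := fun x => ψ e (((h⁻¹ : GL ι F) : Matrix ι ι F) *ᵥ x)
  have hZx : ∀ x, (Z : Matrix ι ι F) *ᵥ x = x + φ' x • e' + χ' x • a := fun x => by
    rw [hZ, gl_mul_mulVec, gl_mul_mulVec, hXx e heφ, mulVec_add, mulVec_add, mulVec_smul, mulVec_smul,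
      gl_mulVec_inv, hha]
  have hZf : (Z : Matrix ι ι F) *ᵥ f = f := by
    have hif : ((h⁻¹ : GL ι F) : Matrix ι ι F) *ᵥ f = f := by
      conv_lhs => rw [← hhf]
      exact gl_inv_mulVec h f
    rw [hZx]
    simp only [φ', χ', hif, hfφ, hψ, B_comm (H *ᵥ f) (H *ᵥ e), hef']
    simp
  have hZa : (Z : Matrix ι ι F) *ᵥ a = a := by
    have hia : ((h⁻¹ : GL ι F) : Matrix ι ι F) *ᵥ a = a := by
      conv_lhs => rw [← hha]
      exact gl_inv_mulVec h a
    rw [hZx]
    simp only [φ', χ', hia, hφa, hψ, hHa, B_comm u (H *ᵥ e), show B (H *ᵥ e) u = 0 from heφ]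
    simp
  set y := φ c • f + ψ f e' • a with hy
  have hy0 : y ≠ 0 := fun e0 => by
    have := congrArg (fun v => B v e) e0
    simp only [hy, hb.add_left, hb.smul_left, hfe, B_comm a e, hea, form_zero_left (bil hQ)] at this
    exact hφc (by linear_combination this)
  have hXa : (X f : Matrix ι ι F) *ᵥ a = a := by
    rw [hXx f hfφ, hφa]
    simp only [hψ, hφa, hHa, B_comm u (H *ᵥ f), show B (H *ᵥ f) u = 0 from hfφ]
    simp
  have hdiff : ∀ x, ((Z * X f : GL ι F) : Matrix ι ι F) *ᵥ x =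
      ((X f * Z : GL ι F) : Matrix ι ι F) *ᵥ x + (-φ' x) • y := fun x => by
    rw [gl_mul_mulVec Z, gl_mul_mulVec (X f), hXx f hfφ x, mulVec_add, mulVec_add, mulVec_smul, mulVec_smul,
      hZf, hZa, hZx x, mulVec_add, mulVec_add, mulVec_smul, mulVec_smul, hXa, hXx f hfφ e', hXx f hfφ x,
      hy, ← hφe']
    module
  obtain ⟨χ, hχ⟩ := diff_tv hdet (M.mul_mem hZM (hXM f hfφ)) (M.mul_mem (hXM f hfφ) hZM) hy0
    (fun x => ⟨_, hdiff x⟩) (fun e0 => by
      have := hdiff ((h : Matrix ι ι F) *ᵥ c)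
      rw [e0, left_eq_add, smul_eq_zero] at this
      refine this.elim (fun h0 => hφc ?_) hy0
      simpa [φ', gl_inv_mulVec] using h0)
  exact ⟨y, χ, hy0, hχ⟩

/-! ### Spreading -/

include hQ h2 hn hiso in
/-- A singular vector goes to a multiple of any other non-zero one. -/
theorem exists_move {a b : ι → F} (ha0 : a ≠ 0) (ha : Q a = 0) (hb0 : b ≠ 0) (hb' : Q b = 0) :
    ∃ p ∈ M, (p : Matrix ι ι F) *ᵥ a = b := by
  have hb := hQ.polar_bilinear
  have hdir : ∀ a b, Q a = 0 → Q b = 0 → B a b ≠ 0 → ∃ p ∈ M, (p : Matrix ι ι F) *ᵥ a = b := by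
    intro a b ha hb' hab
    have hv : Q (a - b) ≠ 0 := by
      rw [show a - b = a + (-1 : F) • b by module, Q_add_smul hQ, ha, hb']
      simpa using hab
    obtain ⟨e, he, hev, hea⟩ := exists_sing_perp hQ h2 hn hv (y := a) fun hm => by
      obtain ⟨s, hs⟩ := Submodule.mem_span_singleton.mp hm
      rw [← hs, hQ.smul] at ha
      rcases mul_eq_zero.mp ha with h | h
      · rw [pow_eq_zero_iff (by norm_num)] at h
        rw [← hs, h, zero_smul, form_zero_left (bil hQ)] at hab
        exact hab rfl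
      · exact hv h
    set u := (B e a)⁻¹ • e with hu
    have huQ : Q u = 0 := by rw [hu, hQ.smul, he, mul_zero]
    have hua : B u a = 1 := by rw [hu, hb.smul_left, inv_mul_cancel₀ hea]
    have hxu : B (b - a) u = 0 := by
      rw [sub_right hQ] at hev
      rw [hu, hb.smul_right, B_comm (b - a), sub_right hQ]
      linear_combination -(B e a)⁻¹ * hev
    refine ⟨sieg Q u (b - a), sieg_mem hQ hiso huQ hxu, ?_⟩
    have h1 : B a (b - a) + Q (b - a) = 0 := by
      have := Q_add (Q := Q) a (b - a)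
      rw [add_sub_cancel, ha, hb'] at this
      linear_combination -this
    rw [sieg_mulVec hQ huQ hxu, B_comm a u, hua, one_smul, mul_one,
      show -B a (b - a) - Q (b - a) = 0 by linear_combination -h1, zero_smul, add_zero,
      add_sub_cancel]
  by_cases hab : B a b = 0
  swap
  · exact hdir a b ha hb' hab
  obtain ⟨z, hz1, hz2⟩ := exists_dot_ne_zero_both (formVec_ne_zero (bil hQ) hQ.nondegenerate ha0)
    (formVec_ne_zero (bil hQ) hQ.nondegenerate hb0)
  rw [formVec_dot (bil hQ)] at hz1 hz2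
  set c := z + (-(Q z / B z a)) • a
  have hc : Q c = 0 := by rw [Q_add_smul hQ, ha]; field_simp; ring
  have hca : B a c ≠ 0 := by
    rw [B_comm, hb.add_left, hb.smul_left, B_self hQ, ha, mul_zero, mul_zero, add_zero]; exact hz1
  have hcb : B c b ≠ 0 := by rw [hb.add_left, hb.smul_left, hab, mul_zero, add_zero]; exact hz2
  obtain ⟨p, hp, hpa⟩ := hdir a c ha hc hca
  obtain ⟨q, hq, hqc⟩ := hdir c b hc hb' hcb
  exact ⟨q * p, M.mul_mem hq hp, by rw [gl_mul_mulVec, hpa, hqc]⟩

include hQ h2 hn hiso in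
/-- A transvection with non-singular centre gives all with that centre. -/
theorem fullCenter_of_tv {v χ : ι → F} (hv : Q v ≠ 0) (hχ : χ ≠ 0) (hχv : χ ⬝ᵥ v = 0)
    (hM : tv v χ ∈ M) : FullCenter M v := by
  have hb := hQ.polar_bilinear
  have hl := bil hQ
  obtain ⟨y, rfl⟩ := formVec_surjective hl hb.add_right hQ.nondegenerate χ
  rw [formVec_dot hl] at hχv
  have hfv : ∀ x, formVec B x ⬝ᵥ v = B v x := fun x => formVec_dot hl x v
  have hfadd : ∀ x z, formVec B (x + z) = formVec B x + formVec B z := fun x z =>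
    funext fun i => hb.add_right _ _ _
  let A : AddSubgroup (ι → F) :=
    { carrier := {z | B v z = 0 ∧ tv v (formVec B z) ∈ M}
      zero_mem' := ⟨zero_right hQ v, by
        rw [show formVec B (0 : ι → F) = 0 from funext fun i => zero_right hQ _, tv_zero_right]
        exact M.one_mem⟩
      add_mem' := fun {x z} hx hz => ⟨by rw [hb.add_right, hx.1, hz.1, add_zero], by
        rw [hfadd, ← tv_mul_center (by rw [hfv, hx.1]) (by rw [hfv, hz.1])]
        exact M.mul_mem hx.2 hz.2⟩
      neg_mem' := fun {x} hx => ⟨by rw [show -x = (-1 : F) • x by simp, hb.smul_right, hx.1, mul_zero], by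
        rw [show formVec B (-x) = -formVec B x from funext fun i => by
          show B _ (-x) = -B _ x
          rw [show -x = (-1 : F) • x by simp, hb.smul_right, neg_one_mul], ← tv_inv (by rw [hfv, hx.1])]
        exact M.inv_mem hx.2⟩ }
  -- invariance
  have hinv : ∀ e w z, Q e = 0 → B w e = 0 → B e v = 0 → B w v = 0 → z ∈ A →
      B z e • w + (-B z w - Q w * B z e) • e ∈ A := by
    intro e w z he hwe hev hwv hz
    set s := sieg Q e w with hs
    have hsM : s ∈ M := sieg_mem hQ hiso he hwe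
    have hsx := sieg_mulVec hQ he hwe
    have hsv : (s : Matrix ι ι F) *ᵥ v = v := by
      rw [hs, hsx, B_comm v e, hev, B_comm v w, hwv]; simp
    have h1 : (s : Matrix ι ι F) *ᵥ z ∈ A := by
      refine ⟨?_, ?_⟩
      · have := B_map (Q := Q) (fun x => sieg_isometry hQ he hwe x) v z
        rw [← hs, hsv, hz.1] at this
        exact this
      · have := M.mul_mem (M.mul_mem hsM hz.2) (M.inv_mem hsM)
        rw [conj_tv _ (by rw [hfv, hz.1]), hsv] at this
        rwa [show formVec B ((s : Matrix ι ι F) *ᵥ z) =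
            formVec B z ᵥ* ((s⁻¹ : GL ι F) : Matrix ι ι F) from dotProduct_eq _ _ fun x => by
          rw [← dotProduct_mulVec, formVec_dot hl, formVec_dot hl,
            ← B_map (fun x => sieg_isometry hQ he hwe x) (((s⁻¹ : GL ι F) : Matrix ι ι F) *ᵥ x) z,
            ← hs, gl_mulVec_inv]]
    have := A.sub_mem h1 hz
    rwa [hs, hsx, add_assoc, add_sub_cancel_left] at this
  -- lines of singular vectors
  have hline : ∀ e z, Q e = 0 → B e v = 0 → z ∈ A → B z e ≠ 0 →
      (∀ c : F, c • e ∈ A) ∧ ∀ w, B w e = 0 → B w v = 0 → w ∈ A := by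
    intro e z he hev hz hze
    obtain ⟨t, ht, hte⟩ := dual hQ (S := Submodule.span F {v}) (z := e) fun hm => by
      obtain ⟨s, hs⟩ := Submodule.mem_span_singleton.mp hm
      rw [← hs, hQ.smul] at he
      rcases mul_eq_zero.mp he with h | h
      · rw [pow_eq_zero_iff (by norm_num)] at h
        rw [← hs, h, zero_smul, zero_right hQ] at hze
        exact hze rfl
      · exact hv h
    set f := t + (-Q t) • e
    have hf : Q f = 0 := by rw [Q_add_smul hQ, he, hte]; ring
    have hfv' : B f v = 0 := by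
      rw [hb.add_left, hb.smul_left, ht v (Submodule.mem_span_singleton_self v), hev]; ring
    have hef : B e f = 1 := by rw [hb.add_right, hb.smul_right, B_self hQ, he, B_comm, hte]; ring
    obtain ⟨w, hQw, hwv, hwe, -⟩ := exists_aniso_perp hQ h2 hn hv he hf hev hfv' hef
    let K : AddSubgroup F :=
      { carrier := {c | c • e ∈ A}
        zero_mem' := show (0 : F) • e ∈ A by rw [zero_smul]; exact A.zero_mem
        add_mem' := fun {a b} ha hb' => show (a + b) • e ∈ A by rw [add_smul]; exact A.add_mem ha hb'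
        neg_mem' := fun {a} ha => show (-a) • e ∈ A by rw [neg_smul]; exact A.neg_mem ha }
    have hsq : ∀ t : F, t ^ 2 * (-(2 * Q w * B z e)) ∈ K := fun t => by
      have h := A.add_mem (hinv e (t • w) z he (by rw [hb.smul_left, hwe, mul_zero]) hev
        (by rw [hb.smul_left, hwv, mul_zero]) hz)
        (hinv e ((-t) • w) z he (by rw [hb.smul_left, hwe, mul_zero]) hev
        (by rw [hb.smul_left, hwv, mul_zero]) hz)
      show _ • e ∈ A
      convert h using 1
      rw [hb.smul_right, hb.smul_right, hQ.smul, hQ.smul]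
      module
    have hK : ∀ c : F, c • e ∈ A := fun c => by
      set k := -(2 * Q w * B z e) with hk
      have hk0 : k ≠ 0 := neg_ne_zero.mpr (mul_ne_zero (mul_ne_zero h2 hQw) hze)
      have := K.sub_mem (hsq ((c / k + 1) / 2)) (hsq ((c / k - 1) / 2))
      rwa [show ((c / k + 1) / 2) ^ 2 * k - ((c / k - 1) / 2) ^ 2 * k = c by field_simp; ring] at this
    refine ⟨hK, fun w hwe hwv => ?_⟩
    have h := hinv e ((B z e)⁻¹ • w) z he (by rw [hb.smul_left, hwe, mul_zero]) hev
      (by rw [hb.smul_left, hwv, mul_zero]) hz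
    have h' := A.sub_mem h (hK (-B z ((B z e)⁻¹ • w) - Q ((B z e)⁻¹ • w) * B z e))
    rwa [add_sub_cancel_right, smul_smul, mul_inv_cancel₀ hze, one_smul] at h'
  have hy : y ∈ A := ⟨hχv, hM⟩
  obtain ⟨e, he, hev, hey⟩ := exists_sing_perp hQ h2 hn hv (y := y) fun hm => by
    obtain ⟨s, rfl⟩ := Submodule.mem_span_singleton.mp hm
    rw [hb.smul_right, B_self hQ] at hχv
    rcases mul_eq_zero.mp hχv with h | h
    · exact hχ (by rw [h, zero_smul]; exact funext fun i => zero_right hQ _)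
    · exact mul_ne_zero h2 hv h
  obtain ⟨hKe, hWe⟩ := hline e y he hev hy (by rw [B_comm]; exact hey)
  obtain ⟨t, ht, hte⟩ := dual hQ (S := Submodule.span F {v}) (z := e) fun hm => by
    obtain ⟨s, hs⟩ := Submodule.mem_span_singleton.mp hm
    rw [← hs, hQ.smul] at he
    rcases mul_eq_zero.mp he with h | h
    · rw [pow_eq_zero_iff (by norm_num)] at h
      rw [← hs, h, zero_smul, form_zero_left hl] at hey
      exact hey rfl
    · exact hv h
  set f := t + (-Q t) • e
  have hf : Q f = 0 := by rw [Q_add_smul hQ, he, hte]; ring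
  have hfv' : B f v = 0 := by
    rw [hb.add_left, hb.smul_left, ht v (Submodule.mem_span_singleton_self v), hev]; ring
  have hef : B e f = 1 := by rw [hb.add_right, hb.smul_right, B_self hQ, he, B_comm, hte]; ring
  have he1 : e ∈ A := by simpa using hKe 1
  obtain ⟨hKf, -⟩ := hline f e hf hfv' he1 (by rw [hef]; exact one_ne_zero)
  intro φ hφ
  obtain ⟨z, rfl⟩ := formVec_surjective hl hb.add_right hQ.nondegenerate φ
  rw [hfv] at hφ
  have hz : (z - B z e • f) + B z e • f ∈ A := A.add_mem (hWe _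
    (by rw [form_sub_left hl, hb.smul_left, B_comm f e, hef]; ring)
    (by rw [form_sub_left hl, hb.smul_left, hfv', B_comm, hφ]; ring)) (hKf _)
  rw [sub_add_cancel] at hz
  exact hz.2

include hQ h2 hn hdet hiso in
theorem le_of_not_sim {g : GL ι F} (hgM : g ∈ M) (hg : g ∉ Cfsg.Geo.quadSimilarityGroup Q) :
    Cfsg.Geo.specialLinear ι F ≤ M := by
  have hb := hQ.polar_bilinear
  obtain ⟨v₀, χ₀, hv₀, hχ₀, hχv₀, hM₀⟩ := exists_tv hQ h2 hn hdet hiso hgM hg
  obtain ⟨v, χ, hv, hχ, hχv, hvM⟩ : ∃ v χ : ι → F, Q v ≠ 0 ∧ χ ≠ 0 ∧ χ ⬝ᵥ v = 0 ∧ tv v χ ∈ M := by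
    by_cases h : Q v₀ = 0
    swap
    · exact ⟨v₀, χ₀, h, hχ₀, hχv₀, hM₀⟩
    obtain ⟨u, hu0, hu, hua⟩ := exists_moved hQ h2 hn hg
    obtain ⟨p, hpM, hp⟩ := exists_move hQ h2 hn hiso hv₀ h hu0 hu
    have hqM : g * p ∈ M := M.mul_mem hgM hpM
    refine ⟨_, χ₀ ᵥ* (((g * p)⁻¹ : GL ι F) : Matrix ι ι F), hua, ?_, ?_, ?_⟩
    · intro e
      refine hχ₀ (dotProduct_eq _ _ fun x => ?_)
      rw [← vecMul_dot (g * p) χ₀ x, e, zero_dotProduct, zero_dotProduct]
    · rw [← hp, ← gl_mul_mulVec, vecMul_dot, hχv₀]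
    · rw [← hp, ← gl_mul_mulVec, ← conj_tv _ hχv₀]
      exact M.mul_mem (M.mul_mem hqM hM₀) (M.inv_mem hqM)
  have hv0 : v ≠ 0 := fun e => hv (by rw [e, Q_zero hQ])
  refine specialLinear_le_of_irreducible (fun W hW => ?_) hv0
    (fullCenter_of_tv hQ h2 hn hiso hv hχ hχv hvM)
  by_cases hW0 : W = ⊥
  · exact Or.inl hW0
  obtain ⟨x, hx, hx0⟩ := Submodule.exists_mem_ne_zero_of_ne_bot hW0
  have hmem : ∀ e, Q e = 0 → ∀ y ∈ W, B y e ≠ 0 → e ∈ W := by
    intro e he y hy hye
    obtain ⟨w, hw, hQw⟩ := exists_anisotropic hQ ![e] (by omega)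
    have hwe : B w e = 0 := hw 0
    have key : ∀ t : F, B y e • (t • w) + (-B y (t • w) - Q (t • w) * B y e) • e ∈ W := fun t => by
      have hte : B (t • w) e = 0 := by rw [hb.smul_left, hwe, mul_zero]
      have := W.sub_mem (hW _ (sieg_mem hQ hiso he hte) y hy) hy
      rwa [sieg_mulVec hQ he hte, add_assoc, add_sub_cancel_left] at this
    have h := W.smul_mem (-(2 * Q w * B y e))⁻¹ (W.add_mem (key 1) (key (-1)))
    rw [show B y e • ((1 : F) • w) + (-B y ((1 : F) • w) - Q ((1 : F) • w) * B y e) • e +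
      (B y e • ((-1 : F) • w) + (-B y ((-1 : F) • w) - Q ((-1 : F) • w) * B y e) • e) =
      (-(2 * Q w * B y e)) • e by
        rw [hb.smul_right, hb.smul_right, hQ.smul, hQ.smul]; module, smul_smul,
      inv_mul_cancel₀ (neg_ne_zero.mpr (mul_ne_zero (mul_ne_zero h2 hQw) hye)), one_smul] at h
    exact h
  obtain ⟨u, hu, -, hux⟩ := exists_singular hQ h2 (![] : Fin 0 → ι → F) (z := x)
    (by simpa using hx0) (by omega)
  have hxu : B x u = 1 := by rw [B_comm, hux]
  have huW : u ∈ W := hmem u hu x hx (by rw [hxu]; exact one_ne_zero)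
  refine Or.inr (eq_top_iff.mpr ?_)
  rw [← span_singular_four hQ h2 hn, Submodule.span_le]
  intro v' (hv' : Q v' = 0)
  by_cases h1 : B x v' = 0
  · by_cases h3 : B u v' = 0
    · have h4 := hmem (u + v') (by rw [Q_add (Q := Q), hu, hv', h3, add_zero, add_zero]) x hx
        (by rw [hb.add_right, hxu, h1, add_zero]; exact one_ne_zero)
      simpa using W.sub_mem h4 huW
    · exact hmem v' hv' u huW h3
  · exact hmem v' hv' x hx h1

include hQ h2 hn in
theorem maximal : Cfsg.Geo.IsMaximalIn (Cfsg.Geo.specialLinear ι F)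
    (Cfsg.Geo.quadSimilarityGroup Q ⊓ Cfsg.Geo.specialLinear ι F) := by
  refine isMaximalIn_of inf_le_right ?_ fun M hHM hMK g hgM hgH => ?_
  · have : Nonempty ι := Fintype.card_pos_iff.mp (by omega)
    obtain ⟨z1, hz1⟩ := exists_ne (0 : ι → F)
    obtain ⟨w, hw, -, hwz⟩ := exists_singular hQ h2 (![] : Fin 0 → ι → F) (z := z1)
      (by simpa using hz1) (by omega)
    have hw0 : w ≠ 0 := fun e => by
      rw [e, form_zero_left (bil hQ)] at hwz
      exact zero_ne_one hwz
    obtain ⟨z, hz, -, hzw⟩ := exists_singular hQ h2 (![] : Fin 0 → ι → F) (z := w)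
      (by simpa using hw0) (by omega)
    refine ⟨_, tv_mem_specialLinear w (formVec B w), fun hm => ?_⟩
    obtain ⟨c, hc'⟩ := hm.1
    have h0 : formVec B w ⬝ᵥ w = 0 := by rw [formVec_dot (bil hQ), B_self hQ, hw, mul_zero]
    have := hc' z
    rw [tv_mulVec h0, formVec_dot (bil hQ), hzw, one_smul, Q_add (Q := Q), hz, hw, hzw,
      mul_zero, add_zero, zero_add] at this
    exact one_ne_zero this
  refine le_of_not_sim hQ h2 hn (fun y hy => (mem_specialLinear_iff y).mp (hMK hy))
    (fun y hy hyQ => hHM ⟨⟨1, fun x => by rw [hyQ, Units.val_one, one_mul]⟩,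
      (mem_specialLinear_iff y).mpr hy⟩) hgM fun h => hgH ⟨h, hMK hgM⟩

end Cfsg.Agent.Lib.GeomSmall.QuadFour
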