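import Cfsg.Agent.S5643

/-!
An overgroup of a special unitary group in four dimensions is everything.

If `g` is no similarity it maps an isotropic vector to a non-isotropic `x`, so the overgroup has a
transvection with centre `x`; the unitary transvections fixing `x` then give every axis.
-/

set_option autoImplicit false

namespace Cfsg.Agent.Lib.GeomSmall.UnitFour

open Matrix Cfsg.Agent.Lib.Subspaces.Transvection Cfsg.Agent.Lib.Subspaces.FormVec
  Cfsg.Agent.Lib.Subspaces.UnitaryForm

variable {ι : Type} [Fintype ι] [DecidableEq ι] {F : Type*} [Field F] [Finite F]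
  {σ : F ≃+* F} {f : (ι → F) → (ι → F) → F}

variable (hf : Cfsg.Geo.IsUnitaryForm σ f) (hn : Fintype.card ι = 4)

include hf hn in
theorem exists_moved {g : GL ι F} (hg : g ∉ Cfsg.Geo.similarityGroup f) :
    ∃ v, v ≠ 0 ∧ f v v = 0 ∧ f ((g : Matrix ι ι F) *ᵥ v) ((g : Matrix ι ι F) *ᵥ v) ≠ 0 := by
  have hl := isLinearLeft_of_unitary hf
  by_contra hc
  push Not at hc
  refine hg (Cfsg.Agent.S5643.mem_sim_of_axes hf (by omega) g fun v hv0 hvv => ?_)
  have hall : ∀ v, f v v = 0 → f ((g : Matrix ι ι F) *ᵥ v) ((g : Matrix ι ι F) *ᵥ v) = 0 := fun v hv => by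
    rcases eq_or_ne v 0 with rfl | h
    · rw [mulVec_zero, herm_zero_left hf]
    · exact hc v h hv
  set G : (ι → F) → ι → F := fun x => (g : Matrix ι ι F) *ᵥ x with hG
  have hGa : ∀ (x : ι → F) (a : F) (y : ι → F), G (x + a • y) = G x + a • G y := fun x a y => by
    simp only [hG, mulVec_add, mulVec_smul]
  have hiso : ∀ z, f z z = 0 → f z v = 0 → f (G z) (G v) = 0 := by
    intro z hz hzv
    by_contra hne
    obtain ⟨w, hw⟩ := exists_add_ne_zero hf
    have hne' : f (G v) (G z) ≠ 0 := fun e => hne (swap_eq_zero hf e)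
    have h := hall (z + (w / f (G v) (G z)) • v) (by
      rw [expand_add_smul hf, hz, hvv, swap_eq_zero hf hzv]; simp)
    change f (G _) (G _) = 0 at h
    rw [hGa, expand_add_smul hf, show f (G z) (G z) = 0 from hall z hz,
      show f (G v) (G v) = 0 from hall v hvv, div_mul_cancel₀ _ hne', mul_zero, add_zero, zero_add] at h
    exact hw h
  have hker : ∀ z, f z v = 0 → f (G z) (G v) = 0 := by
    intro z hzv
    by_cases hmem : z ∈ Submodule.span F {v}
    · obtain ⟨a, rfl⟩ := Submodule.mem_span_singleton.mp hmem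
      exact hiso _ (by rw [hf.smul_left, smul_right hf, hvv]; ring) (by rw [hf.smul_left, hvv, mul_zero])
    obtain ⟨u, huu, hus, huz⟩ := exists_isotropic hf ![v] (z := z)
      (by simpa [Matrix.range_cons, Matrix.range_empty] using hmem) (by omega)
    have huv : f u v = 0 := hus 0
    obtain ⟨a, -, ha⟩ := exists_isotropic_shift hf huu (z := z) (by rw [huz]; exact one_ne_zero)
    have h1 := hiso _ ha (by rw [hf.add_left, hf.smul_left, hzv, huv, mul_zero, add_zero])
    rw [hGa, hf.add_left, hf.smul_left, hiso u huu huv, mul_zero, add_zero] at h1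
    exact h1
  obtain ⟨c, hc'⟩ := exists_smul_of_ker_le (formVec_ne_zero hl hf.nondegenerate hv0)
    (ψ := formVec f (G v) ᵥ* (g : Matrix ι ι F)) fun z hz => by
      rw [← dotProduct_mulVec, formVec_dot hl]
      rw [formVec_dot hl] at hz
      exact hker z hz
  have hgv : G v ≠ 0 := fun e => hv0 (gl_mulVec_injective g (by simpa [hG] using e))
  have hc0 : c ≠ 0 := fun e => by
    rw [e, zero_smul] at hc'
    refine formVec_ne_zero hl hf.nondegenerate hgv (dotProduct_eq _ _ fun x => ?_)
    have := congrArg (fun φ => φ ⬝ᵥ (((g⁻¹ : GL ι F) : Matrix ι ι F) *ᵥ x)) hc'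
    simpa [← dotProduct_mulVec, gl_mulVec_inv] using this
  refine ⟨c⁻¹, dotProduct_eq _ _ fun x => ?_⟩
  have := congrArg (fun φ => φ ⬝ᵥ (((g⁻¹ : GL ι F) : Matrix ι ι F) *ᵥ x)) hc'
  simp only [← dotProduct_mulVec, gl_mulVec_inv, smul_dotProduct, smul_eq_mul] at this
  rw [← dotProduct_mulVec, smul_dotProduct, smul_eq_mul, this, ← mul_assoc, inv_mul_cancel₀ hc0, one_mul]

include hf hn in
theorem le_of_not_sim {M : Subgroup (GL ι F)}
    (hM : Cfsg.Geo.similarityGroup f ⊓ Cfsg.Geo.specialLinear ι F ≤ M)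
    {g : GL ι F} (hgM : g ∈ M) (hg : g ∉ Cfsg.Geo.similarityGroup f) :
    Cfsg.Geo.specialLinear ι F ≤ M := by
  have hl := isLinearLeft_of_unitary hf
  have hT : ∀ v (a : F), f v v = 0 → a + σ a = 0 → tv v (a • formVec f v) ∈ M :=
    fun v a hv ha => hM (Cfsg.Agent.S5643.tv_mem_sim hf hv ha)
  obtain ⟨e, he0, he⟩ := exists_skew_scalar hf
  obtain ⟨v, hv0, hvv, hxx⟩ := exists_moved hf hn hg
  set x := (g : Matrix ι ι F) *ᵥ v with hx
  have hd0 : (e • formVec f v) ⬝ᵥ v = 0 := utv_dot hf hvv e
  set ψ := (e • formVec f v) ᵥ* ((g⁻¹ : GL ι F) : Matrix ι ι F) with hψ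
  have hψx : ψ ⬝ᵥ x = 0 := by rw [hψ, hx, vecMul_dot, hd0]
  have hψM : tv x ψ ∈ M := by
    rw [hψ, hx, ← conj_tv g hd0]
    exact M.mul_mem (M.mul_mem hgM (hT v e hvv he)) (M.inv_mem hgM)
  have hψ0 : ψ ≠ 0 := fun e0 => by
    refine formVec_ne_zero hl hf.nondegenerate hv0 (dotProduct_eq _ _ fun z => ?_)
    have h := vecMul_dot g (e • formVec f v) z
    rw [← hψ, e0, zero_dotProduct, smul_dotProduct, smul_eq_mul, eq_comm, mul_eq_zero] at h
    rw [h.resolve_left he0, zero_dotProduct]
  obtain ⟨y, hy⟩ := formVec_surjective hl (add_right hf) hf.nondegenerate ψ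
  have hfx : ∀ z, f z x = 0 → formVec f z ⬝ᵥ x = 0 := fun z h => by
    rw [formVec_dot hl, swap_eq_zero hf h]
  let A : AddSubgroup (ι → F) :=
    { carrier := {z | f z x = 0 ∧ tv x (formVec f z) ∈ M}
      zero_mem' := ⟨herm_zero_left hf x, by
        rw [show formVec f (0 : ι → F) = 0 from funext fun i => zero_right hf _, tv_zero_right]
        exact M.one_mem⟩
      add_mem' := fun {a b} ha hb => ⟨by rw [hf.add_left, ha.1, hb.1, add_zero], by
        rw [formVec_add hf, ← tv_mul_center (hfx _ ha.1) (hfx _ hb.1)]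
        exact M.mul_mem ha.2 hb.2⟩
      neg_mem' := fun {a} ha => ⟨by rw [show -a = (-1 : F) • a by simp, hf.smul_left, ha.1, mul_zero], by
        rw [show -a = (-1 : F) • a by simp, formVec_smul hf, map_neg, map_one, neg_one_smul,
          ← tv_inv (hfx _ ha.1)]
        exact M.inv_mem ha.2⟩ }
  have hclose : ∀ z w (a : F), z ∈ A → f w w = 0 → f w x = 0 → a + σ a = 0 → (a * f z w) • w ∈ A := by
    intro z w a hz hw hwx ha
    refine ⟨by rw [hf.smul_left, hwx, mul_zero], ?_⟩
    have ha' : -a + σ (-a) = 0 := by rw [map_neg]; linear_combination -ha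
    have h := tv_axis_shift_mem (hfx _ hz.1) (utv_dot hf hw (-a))
      (by rw [smul_dotProduct, hfx _ hwx, smul_zero]) hz.2 (hT w (-a) hw ha')
    rw [formVec_dot hl, smul_smul] at h
    have hσa : σ a = -a := by linear_combination ha
    rwa [formVec_smul hf, map_mul, ← hf.herm, hσa, mul_comm (-a)]
  have hyA : y ∈ A := ⟨by
    have := hψx
    rw [← hy, formVec_dot hl] at this
    exact swap_eq_zero hf this, by rw [hy]; exact hψM⟩
  have hx0 : x ≠ 0 := fun e0 => hxx (by rw [e0, herm_zero_left hf])
  have hnotx : ∀ w, w ≠ 0 → f w x = 0 → w ∉ Submodule.span F (Set.range ![x]) := by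
    intro w hw hwx hm
    rw [Matrix.range_cons, Matrix.range_empty, Set.union_empty, Submodule.mem_span_singleton] at hm
    obtain ⟨a, rfl⟩ := hm
    rw [hf.smul_left] at hwx
    exact hw (by rw [(mul_eq_zero.mp hwx).resolve_right hxx, zero_smul])
  have hproj : ∀ z w u0, f w w = 0 → f w x = 0 → f u0 u0 = 0 → f u0 x = 0 → f u0 w = 1 →
      f (z - (f z x / f x x) • x - f z w • u0 - f z u0 • w) x = 0 ∧
      f (z - (f z x / f x x) • x - f z w • u0 - f z u0 • w) u0 = 0 ∧
      f (z - (f z x / f x x) • x - f z w • u0 - f z u0 • w) w = 0 := by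
    intro z w u0 hw hwx hu hux huw
    have hwu : f w u0 = 1 := by rw [hf.herm, huw, map_one]
    refine ⟨?_, ?_, ?_⟩ <;>
      simp only [form_sub_left hl, hf.smul_left, hw, hwx, hu, hux, huw, hwu, swap_eq_zero hf hwx,
        swap_eq_zero hf hux]
    · field_simp; ring
    · ring
    · ring
  -- a whole line for each isotropic vector not orthogonal to a member
  have hline : ∀ z w, z ∈ A → f w w = 0 → f w x = 0 → f z w ≠ 0 → ∀ γ : F, γ • w ∈ A := by
    intro z w hz hw hwx hzw
    set c := f z w with hc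
    have hw0 : w ≠ 0 := fun e0 => hzw (by rw [hc, e0, zero_right hf])
    obtain ⟨u0, hu0, hu0s, hu0w⟩ := exists_isotropic hf ![x] (hnotx w hw0 hwx) (by omega)
    have hu0x : f u0 x = 0 := hu0s 0
    have hwu0 : f w u0 = 1 := by rw [hf.herm, hu0w, map_one]
    obtain ⟨k, hkx, hku, hkw, hkk⟩ : ∃ k, f k x = 0 ∧ f k u0 = 0 ∧ f k w = 0 ∧ f k k ≠ 0 := by
      obtain ⟨k0, hk0, hks⟩ := exists_common_zero_not_mem (⊥ : Submodule F (ι → F))
        ![formVec f x, formVec f u0, formVec f w] (by rw [finrank_bot]; omega)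
      have h1 : f k0 x = 0 := by have := hks 0; simpa [formVec_dot hl] using this
      have h2 : f k0 u0 = 0 := by have := hks 1; simpa [formVec_dot hl] using this
      have h3 : f k0 w = 0 := by have := hks 2; simpa [formVec_dot hl] using this
      obtain ⟨⟨z, hz⟩, -⟩ := hf.nondegenerate k0 (by simpa using hk0)
      obtain ⟨q1, q2, q3⟩ := hproj z w u0 hw hwx hu0 hu0x hu0w
      set z' := z - (f z x / f x x) • x - f z w • u0 - f z u0 • w with hz'
      have hzk : f k0 z' ≠ 0 := fun h => hz (by
        have h' := swap_eq_zero hf h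
        rw [hz', form_sub_left hl, form_sub_left hl, form_sub_left hl, hf.smul_left, hf.smul_left,
          hf.smul_left, swap_eq_zero hf h1, swap_eq_zero hf h2, swap_eq_zero hf h3] at h'
        simpa using h')
      by_cases hzz : f z' z' = 0
      swap
      · exact ⟨z', q1, q2, q3, hzz⟩
      by_cases hkk : f k0 k0 = 0
      swap
      · exact ⟨k0, h1, h2, h3, hkk⟩
      obtain ⟨μ, hμ⟩ := exists_add_ne_zero hf
      refine ⟨z' + (μ / f k0 z') • k0, ?_, ?_, ?_, ?_⟩
      · rw [hf.add_left, hf.smul_left, q1, h1, mul_zero, add_zero]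
      · rw [hf.add_left, hf.smul_left, q2, h2, mul_zero, add_zero]
      · rw [hf.add_left, hf.smul_left, q3, h3, mul_zero, add_zero]
      · rwa [expand_add_smul hf, hzz, hkk, div_mul_cancel₀ _ hzk, mul_zero, add_zero, zero_add]
    obtain ⟨u, huu, hux, huw, hT'⟩ : ∃ u, f u u = 0 ∧ f u x = 0 ∧ f u w = 1 ∧
        f z u / c + σ (f z u / c) ≠ 0 := by
      by_contra hno
      push Not at hno
      have hval : ∀ l : F, (f z u0 / c + σ (f z u0 / c)) + (σ l * (f z k / c) + σ (σ l * (f z k / c)))
          - l * σ l * f k k = 0 := by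
        intro l
        obtain ⟨t, ht⟩ := exists_trace hf (r := -(l * σ l * f k k)) (by
          rw [map_neg, map_mul, map_mul, hf.involutive, self_fixed hf]; ring)
        have h := hno (u0 + l • k + t • w) (by
          rw [expand_add_smul hf, expand_add_smul hf, add_right hf, smul_right hf, hu0, hw, hku, hwu0,
            swap_eq_zero hf hkw]
          simp only [mul_zero, map_zero, add_zero, zero_add, mul_one]
          linear_combination ht) (by
          rw [hf.add_left, hf.add_left, hf.smul_left, hf.smul_left, hu0x, hkx, hwx]; ring) (by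
          rw [hf.add_left, hf.add_left, hf.smul_left, hf.smul_left, hu0w, hkw, hw]; ring)
        rw [add_right hf, add_right hf, smul_right hf, smul_right hf, ← hc, add_div, add_div,
          mul_div_assoc, mul_div_assoc, div_self hzw, mul_one, map_add, map_add, hf.involutive] at h
        linear_combination h - ht
      obtain ⟨μ, hμ⟩ := exists_add_ne_zero hf
      have h0 := hval 0
      have h1 := hval 1
      have h2 := hval μ
      have h3 := hval (1 + μ)
      simp only [map_add, map_one, map_zero, map_mul, hf.involutive] at h0 h1 h2 h3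
      refine mul_ne_zero hμ hkk ?_
      linear_combination h1 + h2 - h3 - h0
    have hs : ∀ s : F, s + σ s = 0 → (s * c) • w ∈ A := fun s hs => hclose z w s hz hw hwx hs
    have hs2 : ∀ s : F, s + σ s = 0 → (s * (e * f z u)) • w ∈ A := fun s hs => by
      have h := hclose _ w s (hclose z u e hz huu hux he) hw hwx hs
      rwa [hf.smul_left, huw, mul_one] at h
    intro γ
    have hσe : σ e = -e := by linear_combination he
    set T := f z u / c + σ (f z u / c) with hT0
    have hTσ : σ T = T := by rw [hT0, map_add, hf.involutive, add_comm]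
    set s2 := (γ / c + σ (γ / c)) / (e * T) with hs2d
    set s1 := γ / c - s2 * (e * (f z u / c)) with hs1d
    have hs2σ : σ s2 = -s2 := by
      rw [hs2d, map_div₀, map_add, hf.involutive, map_mul, hσe, hTσ, neg_mul, div_neg, add_comm]
    have hs2T : s2 * (e * T) = γ / c + σ (γ / c) := div_mul_cancel₀ _ (mul_ne_zero he0 hT')
    have hs1 : s1 + σ s1 = 0 := by
      rw [hs1d, map_sub, map_mul, map_mul, hs2σ, hσe]
      rw [hT0] at hs2T
      linear_combination -hs2T
    have := A.add_mem (hs s1 hs1) (hs2 s2 (by rw [hs2σ, add_neg_cancel]))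
    rwa [← add_smul, show s1 * c + s2 * (e * f z u) = γ by rw [hs1d]; field_simp; ring] at this
  -- everything orthogonal to `x`
  have hall : ∀ z, f z x = 0 → z ∈ A := by
    have hy0 : y ≠ 0 := fun e0 => hψ0 (by
      rw [← hy, e0]; exact funext fun i => zero_right hf _)
    obtain ⟨w, hw, hws, hwy⟩ := exists_isotropic hf ![x] (hnotx y hy0 hyA.1) (by omega)
    have hwx : f w x = 0 := hws 0
    have hWw := hline y w hyA hw hwx (by rw [hf.herm, hwy, map_one]; exact one_ne_zero)
    have hw0 : w ≠ 0 := fun e0 => one_ne_zero (α := F) (by rw [← hwy, e0, herm_zero_left hf])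
    obtain ⟨u0, hu0, hu0s, hu0w⟩ := exists_isotropic hf ![x] (hnotx w hw0 hwx) (by omega)
    have hu0x : f u0 x = 0 := hu0s 0
    have hwu0 : f w u0 = 1 := by rw [hf.herm, hu0w, map_one]
    have hwA : w ∈ A := by simpa using hWw 1
    have hWu := hline w u0 hwA hu0 hu0x (by rw [hwu0]; exact one_ne_zero)
    intro z hzx
    obtain ⟨q1, q2, q3⟩ := hproj z w u0 hw hwx hu0 hu0x hu0w
    set k := z - (f z x / f x x) • x - f z w • u0 - f z u0 • w with hk
    obtain ⟨t, ht⟩ := exists_trace hf (r := - f k k) (by rw [map_neg, self_fixed hf])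
    have hu : ∀ γ : F, γ • (u0 + (1 : F) • k + t • w) ∈ A := by
      refine hline w _ hwA ?_ ?_ ?_
      · rw [expand_add_smul hf, expand_add_smul hf, add_right hf, smul_right hf, hu0, hw, q2, hwu0,
          swap_eq_zero hf q3]
        simp only [mul_zero, map_zero, map_one, add_zero, zero_add, mul_one, one_mul]
        linear_combination ht
      · rw [hf.add_left, hf.add_left, hf.smul_left, hf.smul_left, hu0x, q1, hwx]; ring
      · rw [add_right hf, add_right hf, smul_right hf, smul_right hf, hwu0, hw, swap_eq_zero hf q3]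
        simp
    have hzk : z = k + f z w • u0 + f z u0 • w := by rw [hk, hzx, zero_div, zero_smul]; abel
    rw [hzk]
    refine A.add_mem (A.add_mem ?_ (hWu _)) (hWw _)
    have := A.sub_mem (A.sub_mem (hu 1) (hWu 1)) (hWw t)
    rwa [show (1 : F) • (u0 + (1 : F) • k + t • w) - (1 : F) • u0 - t • w = k by module] at this
  have hC : FullCenter M x := by
    intro φ hφ
    obtain ⟨z, rfl⟩ := formVec_surjective hl (add_right hf) hf.nondegenerate φ
    rw [formVec_dot hl] at hφ
    exact (hall z (swap_eq_zero hf hφ)).2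
  refine specialLinear_le_of_irreducible (fun W hW => ?_) hx0 hC
  refine invariant_eq_top hf (by omega) he0 fun v hv w hw => ?_
  have := hW _ (hT v e hv he) w hw
  rwa [utv_mulVec hf hv] at this

include hf hn in
theorem maximal : Cfsg.Geo.IsMaximalIn (Cfsg.Geo.specialLinear ι F)
    (Cfsg.Geo.similarityGroup f ⊓ Cfsg.Geo.specialLinear ι F) := by
  refine isMaximalIn_of inf_le_right (Cfsg.Agent.S5643.not_sim_exists hf (by omega)) ?_
  intro M hHM hMK g hgM hgH
  exact le_of_not_sim hf hn hHM hgM fun h => hgH ⟨h, hMK hgM⟩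

end Cfsg.Agent.Lib.GeomSmall.UnitFour
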